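import Cfsg.Agent.MulX.Co0GL

/-!
Data for the prime 7 in `Co0` (owner: helper58)
-/

set_option autoImplicit false
set_option maxRecDepth 1000000

namespace Cfsg.Agent.MulX.Co0G

open Cfsg Cfsg.Agent.Leech Cfsg.Agent.H90.Co Cfsg.Agent.MulX.Stb

/-- rules -/
def rules : List (List ℕ × List ℕ) := [([0, 0, 0, 0, 0, 0, 0], []), ([1, 1, 1, 1, 1, 1, 1], []), ([1, 0], [0, 1]), ([2, 0, 1, 1, 1, 1, 1, 1], [0, 0, 0, 0, 0, 1, 1, 2]), ([3, 0], [0, 0, 0, 0, 0, 0, 3]), ([3, 1], [1, 1, 1, 1, 1, 1, 3]), ([4, 0], [0, 0, 0, 0, 1, 4]), ([4, 1], [0, 0, 0, 0, 0, 4])]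
/-- masks -/
def K : Mk := ⟨0x70007000700070007000700070007, 0xfff0fff0fff0fff0fff0fff0fff0fff, 0x3ff03ff03ff03ff03ff03ff03ff03ff⟩
def paths0 : List (List ℕ × ℕ × ℕ) := [([4, 1, 0], 12, 0x403000c01000e0b00040900040b00040d000001000401000403000000000c0a000e00), ([3, 0, 0, 0, 0, 0, 0, 0], 14, 0x300000000000000000000000000000000000000084800083c00083000082400081800080c000800), ([2, 0, 1, 1, 1, 1, 1, 1, 0, 1, 1, 1, 1, 1, 1, 0, 1, 1, 1, 1, 1, 1, 0, 1, 1, 1, 1, 1, 1, 0, 1, 1, 1, 1, 1, 1, 0, 1, 1, 1, 1, 1, 1, 0, 1, 1, 1, 1, 1, 1], 147, 0x40f00040d00040b00040900040700040500020700040f00040d00040b00040900040700020900040f00040d00040b00040900020b00040f00040d00040b00020d00040f00040d00020f00040f00000300020300020000000000040c00040e00041000041200041400040a00040c00040e00041000041200040800040a00040c00040e00041000040600040800040a00040c00040e00040400040600040800040a00040c00040200040400040600040000040200040400000000040c00040e00041000040a00040c00040e00040800040a00040c00040600040400040200040000000000040c00020c00040a00040c00040e00041000041200041400040800040a00040c00040e00041000041200040600040800040a00040c00040e00041000040400040600040800040a00040c00040e00040200040400040600040800040a00040c00040000040200040400040600000000040c00040e00041000041200040a00040c00040e00041000040800040a00040c00040e00040600040800040a00040c00040400040600040200040400040000040200000000040c00040e00040a00040c00065400064600063800062a00061c00060e000600)]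
def rows0 : List ℕ := [0x100000000, 0x5, 0x30004]
/-- rows -/
def rows : List ℕ := [0x100000000, 0x5, 0x30004]
/-- gauge -/
def gauge : List ℕ := [0x0, 0x0]
def certs0 : List ℕ := [0x18, 0x158, 0x1]
/-- chain of blocks -/
def chn : List (ℕ × List (List ℕ)) := [(0x7be317bdef8c5f17c6317c62f7c5af, [[], [1], [0, 1], [0, 1, 1], [0], [0, 0], [1, 1]]),
  (0x7cdef7bdef8bdef8c5f18c5ef7c62f, [[], [0, 0, 0, 0, 0, 0, 1, 1, 1], [0, 1, 1, 1, 1], [0, 0, 1], [0, 0, 0, 1, 1, 1, 1, 1], [0, 0, 0, 0, 0, 1, 1, 1, 1, 1, 1], [0, 0, 0, 0, 1, 1]])]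

end Cfsg.Agent.MulX.Co0G
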