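import Cfsg.Agent.Golay.Table
import Cfsg.Agent.Hall.Gaschutz

/-!
# Splitting of extensions by modules over the field with two elements (owner: helper58)

Tracked rewriting in an extension `E` of a group by an elementary abelian 2-group `N`: letters `e i`,
rules `lhs → rhs` that hold modulo `N`.  Every closed rewriting path gives a linear equation for the
values `n_r = lhs * rhs⁻¹` of the rules.  `Coh.exists_lift`: if the equations imply that the values
are those of a change of the letters, then there are new letters satisfying the rules.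
-/

set_option autoImplicit false

namespace Cfsg.Agent.MulX.Coh

open Cfsg.Agent.Golay

/-! ### Functionals given by masks -/

/-- value of the functional with mask `L` -/
def ev (x : ℕ → ZMod 2) (L : ℕ) : ZMod 2 :=
  if _h : L = 0 then 0 else (if L % 2 = 1 then x 0 else 0) + ev (fun k => x (k + 1)) (L / 2)
termination_by L
decreasing_by omega

theorem ev_zero (x : ℕ → ZMod 2) : ev x 0 = 0 := by rw [ev]; simp

theorem ev_bit (x : ℕ → ZMod 2) (L : ℕ) :
    ev x L = (if L % 2 = 1 then x 0 else 0) + ev (fun k => x (k + 1)) (L / 2) := by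
  by_cases h : L = 0
  · subst h; simp [ev_zero]
  · rw [ev, dif_neg h]

theorem ev_xor (a : ℕ) : ∀ (x : ℕ → ZMod 2) (b : ℕ), ev x (a ^^^ b) = ev x a + ev x b := by
  induction a using Nat.strong_induction_on with
  | _ a ih =>
    intro x b
    by_cases ha : a = 0
    · subst ha; simp [ev_zero]
    · rw [ev_bit x (a ^^^ b), ev_bit x a, ev_bit x b]
      have h1 : (a ^^^ b) / 2 = a / 2 ^^^ b / 2 := by
        simpa [Nat.shiftRight_eq_div_pow] using Nat.shiftRight_xor_distrib (a := a) (b := b) (i := 1)
      have h2 : (a ^^^ b) % 2 = (a % 2) ^^^ (b % 2) := by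
        simpa using Nat.xor_mod_two_pow (a := a) (b := b) (n := 1)
      rw [h1, ih (a / 2) (by omega), h2]
      have hx : ∀ y : ZMod 2, y + y = 0 := by decide
      rcases Nat.mod_two_eq_zero_or_one a with h3 | h3 <;> rcases Nat.mod_two_eq_zero_or_one b with h4 | h4 <;>
        simp only [h3, h4]
      · norm_num
      · norm_num; ring
      · norm_num; ring
      · norm_num
        linear_combination (-1 : ZMod 2) * hx (x 0)

theorem ev_two_mul (x : ℕ → ZMod 2) (L : ℕ) : ev x (2 * L) = ev (fun k => x (k + 1)) L := by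
  rw [ev_bit]
  have h1 : 2 * L % 2 = 0 := by omega
  have h2 : 2 * L / 2 = L := by omega
  rw [h1, h2]; simp

theorem ev_shift (s : ℕ) : ∀ (x : ℕ → ZMod 2) (L : ℕ), ev x (L <<< s) = ev (fun k => x (k + s)) L := by
  induction s with
  | zero => intro x L; simp
  | succ s ih =>
    intro x L
    have h : L <<< (s + 1) = 2 * (L <<< s) := by
      rw [Nat.shiftLeft_eq, Nat.shiftLeft_eq, pow_succ]; ring
    rw [h, ev_two_mul, ih]
    rfl

theorem ev_congr (d : ℕ) : ∀ (x y : ℕ → ZMod 2) (L : ℕ), L < 2 ^ d → (∀ k < d, x k = y k) → ev x L = ev y L := by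
  induction d with
  | zero =>
    intro x y L hL _
    have : L = 0 := by simpa using hL
    subst this; rw [ev_zero, ev_zero]
  | succ d ih =>
    intro x y L hL h
    rw [ev_bit x L, ev_bit y L, h 0 (Nat.succ_pos d), ih _ _ (L / 2) (by rw [pow_succ] at hL; omega)
      (fun k hk => h (k + 1) (by omega))]

theorem ev_add (x y : ℕ → ZMod 2) (L : ℕ) : ev (fun k => x k + y k) L = ev x L + ev y L := by
  induction L using Nat.strong_induction_on generalizing x y with
  | _ L ih =>
    by_cases h : L = 0
    · subst h; simp [ev_zero]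
    · rw [ev_bit _ L, ev_bit x L, ev_bit y L, ih (L / 2) (by omega) (fun k => x (k + 1)) (fun k => y (k + 1))]
      split_ifs <;> ring

theorem ev_pow (x : ℕ → ZMod 2) (c : ℕ) : ev x (1 <<< c) = x c := by
  rw [ev_shift, ev_bit, ev_zero]
  simp

/-- composition of the functional `L` with the matrix with rows `rows` -/
def comp : List ℕ → ℕ → ℕ
  | [], _ => 0
  | r :: rs, L => fz (Nat.shiftRight L 1) fun L' => Nat.xor (Nat.mul (Nat.land L 1) r) (comp rs L')

theorem comp_cons (r : ℕ) (rs : List ℕ) (L : ℕ) :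
    comp (r :: rs) L = ((L &&& 1) * r) ^^^ comp rs (L / 2) := by
  have h : comp (r :: rs) L = fz (Nat.shiftRight L 1) fun L' => Nat.xor (Nat.mul (Nat.land L 1) r) (comp rs L') := rfl
  rw [h, fz_eq]
  have h2 : Nat.shiftRight L 1 = L / 2 := by
    show L >>> 1 = L / 2
    rw [Nat.shiftRight_eq_div_pow, pow_one]
  rw [h2]
  rfl

theorem ev_comp (rs : List ℕ) : ∀ (x z : ℕ → ZMod 2) (L : ℕ), L < 2 ^ rs.length →
    (∀ c < rs.length, z c = ev x (rs.getD c 0)) → ev x (comp rs L) = ev z L := by
  induction rs with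
  | nil =>
    intro x z L hL _
    have : L = 0 := by simpa using hL
    subst this; rw [ev_zero]; exact ev_zero x
  | cons r rs ih =>
    intro x z L hL hz
    rw [comp_cons, ev_xor, ev_bit z L, ih x (fun k => z (k + 1)) (L / 2)
      (by rw [List.length_cons, pow_succ] at hL; omega)
      (fun c hc => by rw [hz (c + 1) (by rw [List.length_cons]; omega)]; rfl)]
    have h0 := hz 0 (by rw [List.length_cons]; omega)
    rw [h0, Nat.and_one_is_mod]
    rcases Nat.mod_two_eq_zero_or_one L with h | h
    · rw [h]; simp [ev_zero]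
    · rw [h]; simp

theorem comp_lt {d : ℕ} (rs : List ℕ) : ∀ (L : ℕ), (∀ c < rs.length, rs.getD c 0 < 2 ^ d) → comp rs L < 2 ^ d := by
  induction rs with
  | nil => intro L _; exact Nat.two_pow_pos d
  | cons r rs ih =>
    intro L h
    rw [comp_cons]
    apply Nat.xor_lt_two_pow
    · have h0 := h 0 (by rw [List.length_cons]; omega)
      rw [Nat.and_one_is_mod]
      rcases Nat.mod_two_eq_zero_or_one L with h1 | h1
      · rw [h1, zero_mul]; exact Nat.two_pow_pos d
      · rw [h1, one_mul]; exact h0
    · exact ih _ fun c hc => h (c + 1) (by rw [List.length_cons]; omega)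

/-- if all rows vanish, then all combinations vanish -/
theorem ev_comp_zero (rs : List ℕ) : ∀ (x : ℕ → ZMod 2) (L : ℕ), (∀ r ∈ rs, ev x r = 0) → ev x (comp rs L) = 0 := by
  induction rs with
  | nil => intro x L _; exact ev_zero x
  | cons r rs ih =>
    intro x L h
    rw [comp_cons, ev_xor, ih x _ fun s hs => h s (List.mem_cons_of_mem _ hs), Nat.and_one_is_mod]
    rcases Nat.mod_two_eq_zero_or_one L with h1 | h1
    · rw [h1, zero_mul, ev_zero, add_zero]
    · rw [h1, one_mul, h r List.mem_cons_self, add_zero]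

/-! ### Extensions with letters -/

section Ext

variable {E : Type*} [Group E]

/-- `N` is a module with coordinates `κ`, on which the letters act with matrices `mats`. -/
structure Act (d : ℕ) (N : Subgroup E) (κ : E → ℕ → ZMod 2) (e : ℕ → E) (mats : ℕ → List ℕ) : Prop where
  hd : 0 < d
  nor : N.Normal
  mul : ∀ m ∈ N, ∀ n ∈ N, ∀ c < d, κ (m * n) c = κ m c + κ n c
  len : ∀ i, (mats i).length = d
  bnd : ∀ i, ∀ c < d, (mats i).getD c 0 < 2 ^ d
  act : ∀ i, ∀ n ∈ N, ∀ c < d, κ (e i * n * (e i)⁻¹) c = ev (κ n) ((mats i).getD c 0)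

/-- value of a word -/
def val (e : ℕ → E) (w : List ℕ) : E := (w.map e).prod

theorem val_append (e : ℕ → E) (u v : List ℕ) : val e (u ++ v) = val e u * val e v := by
  simp [val]

theorem val_cons (e : ℕ → E) (i : ℕ) (v : List ℕ) : val e (i :: v) = e i * val e v := by
  simp [val]

theorem val_nil (e : ℕ → E) : val e [] = 1 := rfl

/-- transport of a functional along a word -/
def pull (mats : ℕ → List ℕ) : List ℕ → ℕ → ℕ
  | [], L => L
  | i :: u, L => fz (comp (mats i) L) fun L' => pull mats u L'

/-- functional on the values of the letters: change of a word -/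
def drow (d : ℕ) (mats : ℕ → List ℕ) : List ℕ → ℕ → ℕ
  | [], _ => 0
  | i :: u, L => fz (comp (mats i) L) fun L' => Nat.xor (Nat.shiftLeft L (Nat.mul d i)) (drow d mats u L')

namespace Act

variable {d : ℕ} {N : Subgroup E} {κ : E → ℕ → ZMod 2} {e : ℕ → E} {mats : ℕ → List ℕ}

theorem one (A : Act d N κ e mats) {c : ℕ} (hc : c < d) : κ 1 c = 0 := by
  have h := A.mul 1 N.one_mem 1 N.one_mem c hc
  rw [one_mul] at h
  have : ∀ y : ZMod 2, y = y + y → y = 0 := by decide
  exact this _ h

theorem conj_mem (A : Act d N κ e mats) (g : E) {n : E} (hn : n ∈ N) : g * n * g⁻¹ ∈ N := A.nor.conj_mem n hn g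

theorem ev_one (A : Act d N κ e mats) {L : ℕ} (hL : L < 2 ^ d) : ev (κ 1) L = 0 := by
  have : ∀ (d' : ℕ) (x : ℕ → ZMod 2) (L : ℕ), L < 2 ^ d' → (∀ k < d', x k = 0) → ev x L = 0 := by
    intro d' x L hL hx
    rw [ev_congr d' x (fun _ => 0) L hL hx]
    clear hL hx
    induction L using Nat.strong_induction_on with
    | _ L ih =>
      by_cases h : L = 0
      · subst h; exact ev_zero _
      · rw [ev_bit, ih (L / 2) (by omega)]; simp
  exact this d _ L hL fun k hk => A.one hk

theorem ev_mul (A : Act d N κ e mats) {m n : E} (hm : m ∈ N) (hn : n ∈ N) {L : ℕ} (hL : L < 2 ^ d) :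
    ev (κ (m * n)) L = ev (κ m) L + ev (κ n) L := by
  rw [← ev_add]
  exact ev_congr d _ _ L hL fun k hk => A.mul m hm n hn k hk

theorem comp_lt (A : Act d N κ e mats) (i L : ℕ) : comp (mats i) L < 2 ^ d :=
  Coh.comp_lt _ _ fun c hc => A.bnd i c (by rw [A.len] at hc; exact hc)

theorem ev_conj (A : Act d N κ e mats) (i : ℕ) {n : E} (hn : n ∈ N) {L : ℕ} (hL : L < 2 ^ d) :
    ev (κ (e i * n * (e i)⁻¹)) L = ev (κ n) (comp (mats i) L) :=
  (ev_comp (mats i) (κ n) (κ (e i * n * (e i)⁻¹)) L (by rw [A.len]; exact hL)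
    fun c hc => A.act i n hn c (by rw [A.len] at hc; exact hc)).symm

theorem ev_conj_val (A : Act d N κ e mats) (u : List ℕ) : ∀ {n : E}, n ∈ N → ∀ {L : ℕ}, L < 2 ^ d →
    ev (κ (val e u * n * (val e u)⁻¹)) L = ev (κ n) (pull mats u L) := by
  induction u with
  | nil => intro n _ L _; simp [val, pull]
  | cons i u ih =>
    intro n hn L hL
    have h1 : val e (i :: u) * n * (val e (i :: u))⁻¹ = e i * (val e u * n * (val e u)⁻¹) * (e i)⁻¹ := by
      rw [val_cons]; group
    have h2 : pull mats (i :: u) L = fz (comp (mats i) L) fun L' => pull mats u L' := rfl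
    rw [h1, h2, fz_eq, A.ev_conj i (A.conj_mem _ hn) hL, ih hn (A.comp_lt i L)]

theorem pull_lt (A : Act d N κ e mats) (u : List ℕ) : ∀ {L : ℕ}, L < 2 ^ d → pull mats u L < 2 ^ d := by
  induction u with
  | nil => intro L h; exact h
  | cons i u ih =>
    intro L _
    have h2 : pull mats (i :: u) L = fz (comp (mats i) L) fun L' => pull mats u L' := rfl
    rw [h2, fz_eq]
    exact ih (A.comp_lt i L)

end Act

/-! ### Rules and paths -/

/-- a step of a path: position, number of the rule, direction -/
abbrev Step := ℕ × ℕ × Bool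

/-- remove a prefix -/
def strip : List ℕ → List ℕ → Option (List ℕ)
  | [], w => some w
  | _ :: _, [] => none
  | a :: p, b :: w => match Nat.beq a b with
    | true => strip p w
    | false => none

theorem strip_spec : ∀ {p w v : List ℕ}, strip p w = some v → w = p ++ v
  | [], w, v, h => by
    have h1 : some w = some v := h
    rw [Option.some.inj h1]; rfl
  | _ :: _, [], v, h => by
    have h1 : (none : Option (List ℕ)) = some v := h
    cases h1
  | a :: p, b :: w, v, h => by
    have h1 : (match Nat.beq a b with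
      | true => strip p w
      | false => none) = some v := h
    cases hb : Nat.beq a b with
    | true =>
      rw [hb] at h1
      rw [Nat.eq_of_beq_eq_true hb, strip_spec h1]; rfl
    | false => rw [hb] at h1; cases h1

/-- apply a step -/
def app (rules : List (List ℕ × List ℕ)) (s : Step) (w : List ℕ) : Option (List ℕ) :=
  match rules.getD s.2.1 ([], []), s.2.2 with
  | (a, b), false => match strip a (w.drop s.1) with
    | some v => some (w.take s.1 ++ (b ++ v))
    | none => none
  | (a, b), true => match strip b (w.drop s.1) with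
    | some v => some (w.take s.1 ++ (a ++ v))
    | none => none

/-- end of a path -/
def run (rules : List (List ℕ × List ℕ)) : List Step → List ℕ → Option (List ℕ)
  | [], w => some w
  | s :: l, w => match app rules s w with
    | some w' => run rules l w'
    | none => none

/-- row of a path for the functional `L` -/
def rowOf (d : ℕ) (rules : List (List ℕ × List ℕ)) (mats : ℕ → List ℕ) (L : ℕ) : List Step → List ℕ → ℕ
  | [], _ => 0
  | s :: l, w => match app rules s w with
    | some w' => Nat.xor (Nat.shiftLeft (pull mats (w.take s.1) L) (Nat.mul d s.2.1)) (rowOf d rules mats L l w')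
    | none => 0

/-- the value of a rule -/
def nr (e : ℕ → E) (rules : List (List ℕ × List ℕ)) (r : ℕ) : E :=
  val e (rules.getD r ([], [])).1 * (val e (rules.getD r ([], [])).2)⁻¹

/-- all the coordinates of the values of the rules -/
def X (d : ℕ) (κ : E → ℕ → ZMod 2) (e : ℕ → E) (rules : List (List ℕ × List ℕ)) (k : ℕ) : ZMod 2 :=
  κ (nr e rules (k / d)) (k % d)

variable {d : ℕ} {N : Subgroup E} {κ : E → ℕ → ZMod 2} {e : ℕ → E} {mats : ℕ → List ℕ}
  {rules : List (List ℕ × List ℕ)}

theorem ev_X (hd : 0 < d) (r L : ℕ) (hL : L < 2 ^ d) : ev (X d κ e rules) (L <<< (d * r)) = ev (κ (nr e rules r)) L := by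
  rw [ev_shift]
  apply ev_congr d _ _ L hL
  intro k hk
  unfold X
  rw [Nat.add_mul_div_left _ _ hd, Nat.div_eq_of_lt hk, zero_add, Nat.add_mul_mod_self_left, Nat.mod_eq_of_lt hk]

theorem ev_step (A : Act d N κ e mats) (hr : ∀ r, nr e rules r ∈ N) (hsq : ∀ n ∈ N, n * n = 1)
    {s : Step} {w w' : List ℕ} (h : app rules s w = some w') :
    ∃ n ∈ N, val e w = n * val e w' ∧ ∀ L < 2 ^ d,
      ev (κ n) L = ev (X d κ e rules) (pull mats (w.take s.1) L <<< (d * s.2.1)) := by
  obtain ⟨p, r, b⟩ := s
  have hN := hr r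
  set a1 := (rules.getD r ([], [])).1 with ha1
  set a2 := (rules.getD r ([], [])).2 with ha2
  have hn : val e a1 = nr e rules r * val e a2 := by
    unfold nr; rw [← ha1, ← ha2]; group
  have hn2 : val e a2 = nr e rules r * val e a1 := by
    rw [hn, ← mul_assoc, hsq _ hN, one_mul]
  have hw := (List.take_append_drop p w).symm
  refine ⟨val e (w.take p) * nr e rules r * (val e (w.take p))⁻¹, A.conj_mem _ hN, ?_, ?_⟩
  · unfold app at h
    cases b with
    | false =>
      have h1 : (match strip a1 (w.drop p) with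
        | some v => some (w.take p ++ (a2 ++ v))
        | none => none) = some w' := h
      cases hs : strip a1 (w.drop p) with
      | none => rw [hs] at h1; cases h1
      | some v =>
        rw [hs] at h1
        have h2 : w.take p ++ (a2 ++ v) = w' := Option.some.inj h1
        rw [← h2]
        conv_lhs => rw [hw, strip_spec hs]
        simp only [val_append, hn]
        group
    | true =>
      have h1 : (match strip a2 (w.drop p) with
        | some v => some (w.take p ++ (a1 ++ v))
        | none => none) = some w' := h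
      cases hs : strip a2 (w.drop p) with
      | none => rw [hs] at h1; cases h1
      | some v =>
        rw [hs] at h1
        have h2 : w.take p ++ (a1 ++ v) = w' := Option.some.inj h1
        rw [← h2]
        conv_lhs => rw [hw, strip_spec hs]
        simp only [val_append, hn2]
        group
  · intro L hL
    rw [A.ev_conj_val _ hN hL, ev_X A.hd r _ (A.pull_lt _ hL)]

theorem ev_run (A : Act d N κ e mats) (hr : ∀ r, nr e rules r ∈ N) (hsq : ∀ n ∈ N, n * n = 1) (l : List Step) :
    ∀ {w w' : List ℕ}, run rules l w = some w' →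
    ∃ n ∈ N, val e w = n * val e w' ∧ ∀ L < 2 ^ d, ev (κ n) L = ev (X d κ e rules) (rowOf d rules mats L l w) := by
  induction l with
  | nil =>
    intro w w' h
    have h1 : some w = some w' := h
    refine ⟨1, N.one_mem, by rw [Option.some.inj h1, one_mul], fun L hL => ?_⟩
    rw [A.ev_one hL]
    exact (ev_zero _).symm
  | cons s l ih =>
    intro w w' h
    have h1 : (match app rules s w with
      | some w' => run rules l w'
      | none => none) = some w' := h
    cases hs : app rules s w with
    | none => rw [hs] at h1; cases h1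
    | some w1 =>
      rw [hs] at h1
      obtain ⟨n1, hn1, e1, f1⟩ := ev_step A hr hsq hs
      obtain ⟨n2, hn2, e2, f2⟩ := ih h1
      refine ⟨n1 * n2, N.mul_mem hn1 hn2, by rw [e1, e2, mul_assoc], fun L hL => ?_⟩
      rw [A.ev_mul hn1 hn2 hL, f1 L hL, f2 L hL]
      have h3 : rowOf d rules mats L (s :: l) w = (match app rules s w with
        | some w' => Nat.xor (Nat.shiftLeft (pull mats (w.take s.1) L) (Nat.mul d s.2.1)) (rowOf d rules mats L l w')
        | none => 0) := rfl
      rw [h3, hs]
      exact (ev_xor _ _ _).symm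

/-- a closed path gives an equation -/
theorem ev_closed (A : Act d N κ e mats) (hr : ∀ r, nr e rules r ∈ N) (hsq : ∀ n ∈ N, n * n = 1) {l : List Step}
    {w : List ℕ} (h : run rules l w = some w) {L : ℕ} (hL : L < 2 ^ d) :
    ev (X d κ e rules) (rowOf d rules mats L l w) = 0 := by
  obtain ⟨n, -, h1, h2⟩ := ev_run A hr hsq l h
  have h3 : n = 1 := mul_eq_right.1 h1.symm
  rw [← h2 L hL, h3, A.ev_one hL]

/-! ### Change of the letters -/

/-- coordinates of the new letters -/
def V (d : ℕ) (κ : E → ℕ → ZMod 2) (v : ℕ → E) (k : ℕ) : ZMod 2 := κ (v (k / d)) (k % d)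

omit [Group E] in
theorem ev_V (hd : 0 < d) (v : ℕ → E) (i L : ℕ) (hL : L < 2 ^ d) : ev (V d κ v) (L <<< (d * i)) = ev (κ (v i)) L := by
  rw [ev_shift]
  apply ev_congr d _ _ L hL
  intro k hk
  unfold V
  rw [Nat.add_mul_div_left _ _ hd, Nat.div_eq_of_lt hk, zero_add, Nat.add_mul_mod_self_left, Nat.mod_eq_of_lt hk]

theorem ev_change (A : Act d N κ e mats) (v : ℕ → E) (hv : ∀ i, v i ∈ N) (w : List ℕ) :
    ∃ n ∈ N, val (fun i => v i * e i) w = n * val e w ∧
      ∀ L < 2 ^ d, ev (κ n) L = ev (V d κ v) (drow d mats w L) := by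
  induction w with
  | nil =>
    refine ⟨1, N.one_mem, by simp [val], fun L hL => ?_⟩
    rw [A.ev_one hL]; exact (ev_zero _).symm
  | cons i u ih =>
    obtain ⟨n, hn, h1, h2⟩ := ih
    refine ⟨v i * (e i * n * (e i)⁻¹), N.mul_mem (hv i) (A.conj_mem _ hn), ?_, fun L hL => ?_⟩
    · rw [val_cons, val_cons, h1]; group
    · have h3 : drow d mats (i :: u) L = fz (comp (mats i) L) fun L' => Nat.xor (Nat.shiftLeft L (Nat.mul d i)) (drow d mats u L') := rfl
      rw [A.ev_mul (hv i) (A.conj_mem _ hn) hL, A.ev_conj i hn hL, h2 _ (A.comp_lt i L), h3, fz_eq,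
        ← ev_V (κ := κ) A.hd v i L hL]
      exact (ev_xor _ _ _).symm

theorem ev_comp_all (rs : List ℕ) : ∀ (x z : ℕ → ZMod 2) (L : ℕ), (∀ c, z c = ev x (rs.getD c 0)) →
    ev x (comp rs L) = ev z L := by
  induction rs with
  | nil =>
    intro x z L hz
    have h0 : ∀ c, z c = 0 := fun c => by rw [hz c]; exact ev_zero x
    have : ∀ (L : ℕ) (y : ℕ → ZMod 2), (∀ c, y c = 0) → ev y L = 0 := by
      intro L
      induction L using Nat.strong_induction_on with
      | _ L ih =>
        intro y hy
        by_cases h : L = 0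
        · subst h; exact ev_zero _
        · rw [ev_bit, ih (L / 2) (by omega) _ fun c => hy (c + 1), hy 0]; simp
    rw [this L z h0]
    exact ev_zero x
  | cons r rs ih =>
    intro x z L hz
    rw [comp_cons, ev_xor, ev_bit z L, ih x (fun k => z (k + 1)) (L / 2) (fun c => hz (c + 1))]
    have h0 : z 0 = ev x r := hz 0
    rw [h0, Nat.and_one_is_mod]
    rcases Nat.mod_two_eq_zero_or_one L with h | h
    · rw [h]; simp [ev_zero]
    · rw [h]; simp

/-- value of the rule `r` in the coordinate `c` after the change given by `gauge` -/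
def tgt (d : ℕ) (rules : List (List ℕ × List ℕ)) (mats : ℕ → List ℕ) (gauge : List ℕ) (r c : ℕ) : ℕ :=
  fz (Nat.shiftLeft 1 c) fun L => Nat.xor (Nat.shiftLeft L (Nat.mul d r))
    (fz (Nat.xor (drow d mats (rules.getD r ([], [])).1 L) (drow d mats (rules.getD r ([], [])).2 L)) fun M => comp gauge M)

theorem exists_lift (A : Act d N κ e mats) (hr : ∀ r, nr e rules r ∈ N) (hsq : ∀ n ∈ N, n * n = 1)
    (sur : ∀ y : ℕ → ZMod 2, ∃ n ∈ N, ∀ c < d, κ n c = y c) (inj : ∀ n ∈ N, (∀ c < d, κ n c = 0) → n = 1)
    {ns : ℕ} {gauge rows : List ℕ} {tau : ℕ} (hrows : ∀ r ∈ rows, ev (X d κ e rules) r = 0)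
    (htau : ev (X d κ e rules) tau = 0)
    (hc : ∀ r < ns, ∀ c < d, ∃ m b : ℕ, Nat.xor (tgt d rules mats gauge r c) (comp [tau] b) = comp rows m) :
    ∃ v : ℕ → E, (∀ i, v i ∈ N) ∧ ∀ r < ns,
      val (fun i => v i * e i) (rules.getD r ([], [])).1 = val (fun i => v i * e i) (rules.getD r ([], [])).2 := by
  have h1 : ∀ i : ℕ, ∃ n ∈ N, ∀ c < d, κ n c = ev (X d κ e rules) (gauge.getD (d * i + c) 0) :=
    fun i => sur fun c => ev (X d κ e rules) (gauge.getD (d * i + c) 0)
  choose v hv hvc using h1
  refine ⟨v, hv, fun r hrn => ?_⟩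
  obtain ⟨nl, hnl, el, fl⟩ := ev_change A v hv (rules.getD r ([], [])).1
  obtain ⟨nh, hnh, eh, fh⟩ := ev_change A v hv (rules.getD r ([], [])).2
  have hN := hr r
  have h2 : val e (rules.getD r ([], [])).1 = nr e rules r * val e (rules.getD r ([], [])).2 := by
    unfold nr; group
  have h3 : nl * nr e rules r * nh = 1 := by
    apply inj _ (N.mul_mem (N.mul_mem hnl hN) hnh)
    intro c hcd
    have hL : 1 <<< c < 2 ^ d := by
      rw [Nat.shiftLeft_eq, one_mul]; exact Nat.pow_lt_pow_right (by norm_num) hcd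
    rw [← ev_pow (κ (nl * nr e rules r * nh)) c, A.ev_mul (N.mul_mem hnl hN) hnh hL, A.ev_mul hnl hN hL,
      fl _ hL, fh _ hL, ← ev_X (e := e) (rules := rules) A.hd r (1 <<< c) hL]
    obtain ⟨m, b, hmb⟩ := hc r hrn c hcd
    have h4 : ev (X d κ e rules) (Nat.xor (tgt d rules mats gauge r c) (comp [tau] b)) = 0 := by
      rw [hmb]; exact ev_comp_zero _ _ _ hrows
    have h5 : ev (X d κ e rules) (comp [tau] b) = 0 := by
      apply ev_comp_zero
      intro t ht
      rw [List.mem_singleton] at ht
      rw [ht]; exact htau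
    have h6 : ev (X d κ e rules) (tgt d rules mats gauge r c) = 0 := by
      have h7 := ev_xor (tgt d rules mats gauge r c) (X d κ e rules) (comp [tau] b)
      have h8 : Nat.xor (tgt d rules mats gauge r c) (comp [tau] b) = tgt d rules mats gauge r c ^^^ comp [tau] b := rfl
      rw [← h8, h4, h5, add_zero] at h7
      exact h7.symm
    have h9 : tgt d rules mats gauge r c = ((1 <<< c) <<< (d * r)) ^^^
        comp gauge (drow d mats (rules.getD r ([], [])).1 (1 <<< c) ^^^ drow d mats (rules.getD r ([], [])).2 (1 <<< c)) := by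
      unfold tgt
      rw [fz_eq, fz_eq]
      rfl
    have hV : ∀ M, ev (X d κ e rules) (comp gauge M) = ev (V d κ v) M := by
      intro M
      apply ev_comp_all
      intro k
      unfold V
      rw [hvc (k / d) (k % d) (Nat.mod_lt _ A.hd), Nat.div_add_mod]
    rw [h9, ev_xor, hV, ev_xor] at h6
    rw [← h6]; ring
  have h4 : nh * nh = 1 := hsq _ hnh
  have h5 : nl * nr e rules r = nh := by
    calc nl * nr e rules r = nl * nr e rules r * nh * nh⁻¹ := by group
      _ = nh⁻¹ := by rw [h3, one_mul]
      _ = nh := inv_eq_of_mul_eq_one_left h4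
  show val (fun i => v i * e i) (rules.getD r ([], [])).1 = val (fun i => v i * e i) (rules.getD r ([], [])).2
  rw [el, eh, h2, ← mul_assoc, h5]

/-! ### Polycyclic rules -/

theorem card_insert_le [Finite E] (K : Subgroup E) (x : E) (h2 : x * x ∈ K) (hc : ∀ k ∈ K, x⁻¹ * k * x ∈ K) :
    Nat.card ↥(Subgroup.closure (insert x (K : Set E))) ≤ 2 * Nat.card ↥K := by
  have key : ∀ y ∈ Subgroup.closure (insert x (K : Set E)), y ∈ K ∨ x⁻¹ * y ∈ K := by
    intro y hy
    induction hy using Subgroup.closure_induction with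
    | mem y hy =>
      rcases hy with rfl | hy
      · right; rw [inv_mul_cancel]; exact K.one_mem
      · left; exact hy
    | one => left; exact K.one_mem
    | mul y z _ _ hy hz =>
      rcases hy with hy | hy <;> rcases hz with hz | hz
      · left; exact K.mul_mem hy hz
      · right
        have h : x⁻¹ * (y * z) = (x⁻¹ * y * x) * (x⁻¹ * z) := by group
        rw [h]; exact K.mul_mem (hc y hy) hz
      · right; rw [← mul_assoc]; exact K.mul_mem hy hz
      · left
        have h : y * z = (x * x) * (x⁻¹ * (x⁻¹ * y) * x) * (x⁻¹ * z) := by group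
        rw [h]; exact K.mul_mem (K.mul_mem h2 (hc _ hy)) hz
    | inv y _ hy =>
      rcases hy with hy | hy
      · left; exact K.inv_mem hy
      · right
        have h : x⁻¹ * y⁻¹ = (x⁻¹ * (x⁻¹ * y)⁻¹ * x) * (x * x)⁻¹ := by group
        rw [h]; exact K.mul_mem (hc _ (K.inv_mem hy)) (K.inv_mem h2)
  have hsub : ((Subgroup.closure (insert x (K : Set E)) : Subgroup E) : Set E) ⊆ (K : Set E) ∪ (fun k => x * k) '' (K : Set E) := by
    intro y hy
    rcases key y hy with h | h
    · left; exact h
    · right; exact ⟨x⁻¹ * y, h, by group⟩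
  have h1 := Set.ncard_le_ncard hsub (Set.toFinite _)
  have h3 := Set.ncard_union_le (K : Set E) ((fun k => x * k) '' (K : Set E))
  have h4 := Set.ncard_image_le (f := fun k => x * k) (Set.toFinite (K : Set E))
  have e1 : Nat.card ↥(Subgroup.closure (insert x (K : Set E))) = ((Subgroup.closure (insert x (K : Set E)) : Subgroup E) : Set E).ncard := rfl
  have e2 : Nat.card ↥K = (K : Set E).ncard := rfl
  rw [e1, e2]
  omega

/-- membership in an open interval -/
def inB (j n : ℕ) (w : List ℕ) : Bool := w.all fun a => Nat.blt j a && Nat.blt a n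

/-- the rules are polycyclic rules for the letters below `n` -/
def pcOK (n ns : ℕ) (rules : List (List ℕ × List ℕ)) : Bool :=
  (List.range n).all fun j =>
    ((List.range ns).any fun r => match rules.getD r ([], []) with
      | ([a, b], w) => Nat.beq a j && Nat.beq b j && inB j n w
      | _ => false) &&
    (List.range n).all fun i => Nat.ble i j ||
      ((List.range ns).any fun r => match rules.getD r ([], []) with
        | ([a, b], c :: w) => Nat.beq a i && Nat.beq b j && Nat.beq c j && inB j n w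
        | _ => false)

theorem inB_spec {j n : ℕ} {w : List ℕ} (h : inB j n w = true) : ∀ a ∈ w, j < a ∧ a < n := by
  unfold inB at h
  rw [List.all_eq_true] at h
  intro a ha
  have := h a ha
  rw [Bool.and_eq_true] at this
  exact ⟨by simpa [Nat.blt_eq] using this.1, by simpa [Nat.blt_eq] using this.2⟩

theorem val_mem_closure (f : ℕ → E) (s : Set ℕ) (w : List ℕ) (h : ∀ a ∈ w, a ∈ s) :
    val f w ∈ Subgroup.closure (f '' s) := by
  apply Subgroup.list_prod_mem
  intro x hx
  obtain ⟨a, ha, rfl⟩ := List.mem_map.1 hx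
  exact Subgroup.subset_closure ⟨a, h a ha, rfl⟩

theorem card_pc [Finite E] (f : ℕ → E) {n ns : ℕ} (hok : pcOK n ns rules = true)
    (hf : ∀ r < ns, val f (rules.getD r ([], [])).1 = val f (rules.getD r ([], [])).2) :
    Nat.card ↥(Subgroup.closure (f '' {i | i < n})) ≤ 2 ^ n := by
  have sq : ∀ j < n, ∃ w, (∀ a ∈ w, j < a ∧ a < n) ∧ f j * f j = val f w := by
    intro j hj
    unfold pcOK at hok
    have h := (List.all_eq_true.1 hok) j (List.mem_range.2 hj)
    rw [Bool.and_eq_true] at h
    obtain ⟨r, hr, h1⟩ := List.any_eq_true.1 h.1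
    rw [List.mem_range] at hr
    have h2 := hf r hr
    rcases hrr : rules.getD r ([], []) with ⟨l, w⟩
    rw [hrr] at h1 h2
    match l, h1, h2 with
    | [a, b], h1, h2 =>
      have h3 : (Nat.beq a j && Nat.beq b j && inB j n w) = true := h1
      simp only [Bool.and_eq_true] at h3
      refine ⟨w, inB_spec h3.2, ?_⟩
      rw [← h2, Nat.eq_of_beq_eq_true h3.1.1, Nat.eq_of_beq_eq_true h3.1.2]
      simp [val]
  have cj : ∀ j < n, ∀ i < n, j < i → ∃ w, (∀ a ∈ w, j < a ∧ a < n) ∧ f i * f j = f j * val f w := by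
    intro j hj i hi hji
    unfold pcOK at hok
    have h := (List.all_eq_true.1 hok) j (List.mem_range.2 hj)
    rw [Bool.and_eq_true] at h
    have h0 := (List.all_eq_true.1 h.2) i (List.mem_range.2 hi)
    rw [Bool.or_eq_true] at h0
    rcases h0 with h0 | h0
    · rw [Nat.ble_eq] at h0; omega
    obtain ⟨r, hr, h1⟩ := List.any_eq_true.1 h0
    rw [List.mem_range] at hr
    have h2 := hf r hr
    rcases hrr : rules.getD r ([], []) with ⟨l, w⟩
    rw [hrr] at h1 h2
    match l, w, h1, h2 with
    | [a, b], c :: w, h1, h2 =>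
      have h3 : (Nat.beq a i && Nat.beq b j && Nat.beq c j && inB j n w) = true := h1
      simp only [Bool.and_eq_true] at h3
      refine ⟨w, inB_spec h3.2, ?_⟩
      have h4 : val f [a, b] = val f (c :: w) := h2
      rw [Nat.eq_of_beq_eq_true h3.1.1.1, Nat.eq_of_beq_eq_true h3.1.1.2, Nat.eq_of_beq_eq_true h3.1.2] at h4
      rw [val_cons, val_cons, val_nil, mul_one, val_cons] at h4
      exact h4
  have main : ∀ k ≤ n, Nat.card ↥(Subgroup.closure (f '' {i | n - k ≤ i ∧ i < n})) ≤ 2 ^ k := by
    intro k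
    induction k with
    | zero =>
      intro _
      have : {i | n - 0 ≤ i ∧ i < n} = (∅ : Set ℕ) := by
        ext i; simp only [Set.mem_ofPred_eq, Set.mem_empty_iff_false, iff_false]; omega
      rw [this, Set.image_empty, Subgroup.closure_empty]
      simp
    | succ k ih =>
      intro hk
      have ih := ih (by omega)
      set K := Subgroup.closure (f '' {i | n - k ≤ i ∧ i < n}) with hK
      set j := n - (k + 1) with hj
      have hjn : j < n := by omega
      have hle : Subgroup.closure (f '' {i | j ≤ i ∧ i < n}) ≤ Subgroup.closure (insert (f j) (K : Set E)) := by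
        rw [Subgroup.closure_le]
        rintro _ ⟨i, ⟨hi1, hi2⟩, rfl⟩
        by_cases hij : i = j
        · rw [hij]; exact Subgroup.subset_closure (Set.mem_insert _ _)
        · exact Subgroup.subset_closure (Set.mem_insert_of_mem _
            (Subgroup.subset_closure ⟨i, ⟨by omega, hi2⟩, rfl⟩))
      have hsub : ∀ w : List ℕ, (∀ a ∈ w, j < a ∧ a < n) → val f w ∈ K := fun w hw =>
        val_mem_closure f _ w fun a ha => ⟨by have := hw a ha; omega, (hw a ha).2⟩
      have h2 : f j * f j ∈ K := by
        obtain ⟨w, hw, h⟩ := sq j hjn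
        rw [h]; exact hsub w hw
      have hc : ∀ k ∈ K, (f j)⁻¹ * k * f j ∈ K := by
        intro y hy
        rw [hK] at hy
        induction hy using Subgroup.closure_induction with
        | mem y hy =>
          obtain ⟨i, ⟨hi1, hi2⟩, rfl⟩ := hy
          obtain ⟨w, hw, h⟩ := cj j hjn i hi2 (by omega)
          rw [mul_assoc, h, ← mul_assoc, inv_mul_cancel, one_mul]
          exact hsub w hw
        | one => rw [mul_one, inv_mul_cancel]; exact K.one_mem
        | mul y z _ _ hy hz =>
          have h : (f j)⁻¹ * (y * z) * f j = ((f j)⁻¹ * y * f j) * ((f j)⁻¹ * z * f j) := by group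
          rw [h]; exact K.mul_mem hy hz
        | inv y _ hy =>
          have h : (f j)⁻¹ * y⁻¹ * f j = ((f j)⁻¹ * y * f j)⁻¹ := by group
          rw [h]; exact K.inv_mem hy
      have h5 := card_insert_le K (f j) h2 hc
      have h6 := Subgroup.card_le_of_le hle
      rw [pow_succ]
      omega
  have h := main n le_rfl
  have e0 : {i | n - n ≤ i ∧ i < n} = {i | i < n} := by
    ext i; simp
  rw [e0] at h
  exact h

/-! ### Splitting -/

theorem split_of_rules [Finite E] {G : Type*} [Group G] (π : E →* G) (hπ : Function.Surjective π)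
    (hsq : ∀ n ∈ π.ker, n * n = 1) {g : ℕ → G} (hg : ∀ i, π (e i) = g i)
    {n ns : ℕ} (hok : pcOK n ns rules = true)
    (hcard : 2 ^ n ≤ Nat.card ↥(Subgroup.closure (g '' {i | i < n})))
    (hodd : Odd (Subgroup.closure (g '' {i | i < n})).index)
    {v : ℕ → E} (hv : ∀ i, v i ∈ π.ker)
    (hr : ∀ r < ns, val (fun i => v i * e i) (rules.getD r ([], [])).1 = val (fun i => v i * e i) (rules.getD r ([], [])).2) :
    ∃ H : Subgroup E, H ⊓ π.ker = ⊥ ∧ H ⊔ π.ker = ⊤ := by
  set f : ℕ → E := fun i => v i * e i with hfd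
  have hc := card_pc f hok hr
  set H := Subgroup.closure (f '' {i | i < n}) with hH
  set S := Subgroup.closure (g '' {i | i < n}) with hS
  have hmap : H.map π = S := by
    rw [hH, hS, MonoidHom.map_closure]
    congr 1
    ext x
    constructor
    · rintro ⟨_, ⟨i, hi, rfl⟩, rfl⟩
      refine ⟨i, hi, ?_⟩
      rw [hfd]; simp only [map_mul, hg, MonoidHom.mem_ker.1 (hv i), one_mul]
    · rintro ⟨i, hi, rfl⟩
      refine ⟨_, ⟨i, hi, rfl⟩, ?_⟩
      rw [hfd]; simp only [map_mul, hg, MonoidHom.mem_ker.1 (hv i), one_mul]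
  have hsur : Function.Surjective (fun h : H => (⟨π h, by rw [← hmap]; exact Subgroup.mem_map_of_mem π h.2⟩ : S)) := by
    rintro ⟨s, hs⟩
    rw [← hmap] at hs
    obtain ⟨h, hh, rfl⟩ := hs
    exact ⟨⟨h, hh⟩, rfl⟩
  have hbij := hsur.bijective_of_nat_card_le (hc.trans hcard)
  have hAK : H ⊓ π.ker = ⊥ := by
    rw [eq_bot_iff]
    rintro x ⟨hx1, hx2⟩
    have h1 : (⟨x, hx1⟩ : H) = 1 := by
      apply hbij.1
      apply Subtype.ext
      show π x = π ((1 : H) : E)
      rw [MonoidHom.mem_ker.1 hx2, Subgroup.coe_one, map_one]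
    exact Subgroup.mem_bot.2 (congrArg Subtype.val h1)
  have hKA : π.ker ⊔ H = S.comap π := by
    rw [← hmap, Subgroup.comap_map_eq, sup_comm]
  have hcomm : IsMulCommutative π.ker := by
    refine ⟨⟨fun a b => ?_⟩⟩
    apply Subtype.ext
    have h1 := hsq (a * b) (π.ker.mul_mem a.2 b.2)
    have ha := hsq a a.2
    have hb := hsq b b.2
    show (a : E) * b = b * a
    have h2 : (a : E)⁻¹ = a := inv_eq_of_mul_eq_one_left ha
    have h3 : (b : E)⁻¹ = b := inv_eq_of_mul_eq_one_left hb
    have h4 : ((a : E) * b)⁻¹ = a * b := inv_eq_of_mul_eq_one_left h1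
    rw [← h4, mul_inv_rev, h2, h3]
  have hp : IsPGroup 2 π.ker := by
    intro x
    refine ⟨1, ?_⟩
    rw [pow_one, pow_two]
    apply Subtype.ext
    exact hsq x x.2
  have hcop : (Nat.card π.ker).Coprime (S.comap π).index := by
    rw [Subgroup.index_comap_of_surjective _ hπ]
    obtain ⟨k, hk⟩ := (IsPGroup.iff_card).1 hp
    rw [hk]
    exact Nat.Coprime.pow_left k (Nat.coprime_two_left.2 hodd)
  obtain ⟨C, hC⟩ := Cfsg.Agent.Hall.gaschutz_exists π.ker (S.comap π) (by
      intro x hx
      show π x ∈ S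
      rw [MonoidHom.mem_ker.1 hx]; exact S.one_mem) hcop H (by rw [← hmap]; exact Subgroup.le_comap_map _ _) hAK hKA
  refine ⟨C, ?_, ?_⟩
  · rw [inf_comm]; exact disjoint_iff.1 hC.disjoint
  · rw [sup_comm]; exact hC.sup_eq_top

end Ext

end Cfsg.Agent.MulX.Coh
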