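import Cfsg.Agent.MulX.CohM23

/-!
# Baer difference of two extensions of `M23` (owner: helper58)
-/

set_option autoImplicit false

namespace Cfsg.Agent.MulX.CohM

open Cfsg Cfsg.Agent.MulX.Coh

section

variable {E : Type*} [Group E] {E' : Type*} [Group E'] {rw : Spor.M23 → ℕ → ℕ → ZMod 2}
  {π : E →* Spor.M23} {κ : E → ℕ → ZMod 2} {π' : E' →* Spor.M23} {κ' : E' → ℕ → ZMod 2}

theorem z2 : ∀ y : ZMod 2, y + y = 0 := by decide

theorem z2e : ∀ a b : ZMod 2, a + b = 0 → a = b := by decide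

theorem MExt.one (M : MExt rw π κ) {c : ℕ} (hc : c < 11) : κ 1 c = 0 := by
  have h := M.mul 1 π.ker.one_mem 1 π.ker.one_mem c hc
  rw [one_mul] at h
  have : ∀ y : ZMod 2, y = y + y → y = 0 := by decide
  exact this _ h

theorem MExt.inv (M : MExt rw π κ) {n : E} (hn : n ∈ π.ker) {c : ℕ} (hc : c < 11) : κ n⁻¹ c = κ n c := by
  have h := M.mul n⁻¹ (π.ker.inv_mem hn) n hn c hc
  rw [inv_mul_cancel, M.one hc] at h
  exact z2e _ _ h.symm

/-- fibre product -/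
def FL (π : E →* Spor.M23) (π' : E' →* Spor.M23) : Subgroup (E × E') :=
  (π.comp (MonoidHom.fst E E')).eqLocus (π'.comp (MonoidHom.snd E E'))

theorem mem_FL {x : E × E'} : x ∈ FL π π' ↔ π x.1 = π' x.2 := Iff.rfl

/-- diagonal of the modules -/
def DL (M : MExt rw π κ) (M' : MExt rw π' κ') : Subgroup ↥(FL π π') where
  carrier := {x | π x.1.1 = 1 ∧ π' x.1.2 = 1 ∧ ∀ c < 11, κ x.1.1 c = κ' x.1.2 c}
  one_mem' := ⟨map_one _, map_one _, fun c hc => by
    show κ 1 c = κ' 1 c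
    rw [M.one hc, M'.one hc]⟩
  mul_mem' := by
    rintro x y ⟨h1, h2, h3⟩ ⟨k1, k2, k3⟩
    refine ⟨?_, ?_, fun c hc => ?_⟩
    · show π (x.1.1 * y.1.1) = 1
      rw [map_mul, h1, k1, one_mul]
    · show π' (x.1.2 * y.1.2) = 1
      rw [map_mul, h2, k2, one_mul]
    · show κ (x.1.1 * y.1.1) c = κ' (x.1.2 * y.1.2) c
      rw [M.mul _ h1 _ k1 c hc, M'.mul _ h2 _ k2 c hc, h3 c hc, k3 c hc]
  inv_mem' := by
    rintro x ⟨h1, h2, h3⟩
    refine ⟨?_, ?_, fun c hc => ?_⟩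
    · show π (x.1.1)⁻¹ = 1
      rw [map_inv, h1, inv_one]
    · show π' (x.1.2)⁻¹ = 1
      rw [map_inv, h2, inv_one]
    · show κ (x.1.1)⁻¹ c = κ' (x.1.2)⁻¹ c
      rw [M.inv h1 hc, M'.inv h2 hc, h3 c hc]

theorem DL_normal (M : MExt rw π κ) (M' : MExt rw π' κ') : (DL M M').Normal := by
  refine ⟨fun n hn g => ?_⟩
  obtain ⟨h1, h2, h3⟩ := hn
  refine ⟨?_, ?_, fun c hc => ?_⟩
  · show π (g.1.1 * n.1.1 * (g.1.1)⁻¹) = 1
    rw [map_mul, map_mul, h1, mul_one, map_inv, mul_inv_cancel]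
  · show π' (g.1.2 * n.1.2 * (g.1.2)⁻¹) = 1
    rw [map_mul, map_mul, h2, mul_one, map_inv, mul_inv_cancel]
  · show κ (g.1.1 * n.1.1 * (g.1.1)⁻¹) c = κ' (g.1.2 * n.1.2 * (g.1.2)⁻¹) c
    rw [M.act _ _ h1 c hc, M'.act _ _ h2 c hc]
    apply Finset.sum_congr rfl
    intro k hk
    have hg : π g.1.1 = π' g.1.2 := g.2
    rw [h3 k (Finset.mem_range.1 hk), hg]

attribute [local instance] DL_normal

/-- projection of the Baer difference -/
def bp (M : MExt rw π κ) (M' : MExt rw π' κ') : (↥(FL π π') ⧸ DL M M') →* Spor.M23 :=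
  QuotientGroup.lift (DL M M') ((π.comp (MonoidHom.fst E E')).comp (FL π π').subtype) fun _ hx => hx.1

theorem bp_mk (M : MExt rw π κ) (M' : MExt rw π' κ') (l : ↥(FL π π')) :
    bp M M' (QuotientGroup.mk l) = π l.1.1 := rfl

/-- coordinates of the Baer difference -/
noncomputable def bk (M : MExt rw π κ) (M' : MExt rw π' κ') (x : ↥(FL π π') ⧸ DL M M') (c : ℕ) : ZMod 2 :=
  κ (Quotient.out x).1.1 c + κ' (Quotient.out x).1.2 c

theorem bk_mk (M : MExt rw π κ) (M' : MExt rw π' κ') (l : ↥(FL π π')) (hl : π l.1.1 = 1) {c : ℕ} (hc : c < 11) :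
    bk M M' (QuotientGroup.mk l) c = κ l.1.1 c + κ' l.1.2 c := by
  have hl' : π' l.1.2 = 1 := by
    have : π l.1.1 = π' l.1.2 := l.2
    rw [← this, hl]
  have h1 : (QuotientGroup.mk (Quotient.out (QuotientGroup.mk l : ↥(FL π π') ⧸ DL M M')) : ↥(FL π π') ⧸ DL M M') = QuotientGroup.mk l :=
    Quotient.out_eq _
  have h2 := QuotientGroup.eq.1 h1.symm
  set o := Quotient.out (QuotientGroup.mk l : ↥(FL π π') ⧸ DL M M') with ho
  have e1 : (o : E × E').1 = l.1.1 * (l⁻¹ * o).1.1 := by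
    show o.1.1 = l.1.1 * ((l.1.1)⁻¹ * o.1.1)
    group
  have e2 : (o : E × E').2 = l.1.2 * (l⁻¹ * o).1.2 := by
    show o.1.2 = l.1.2 * ((l.1.2)⁻¹ * o.1.2)
    group
  obtain ⟨k1, k2, k3⟩ := h2
  show κ o.1.1 c + κ' o.1.2 c = _
  rw [e1, e2, M.mul _ hl _ k1 c hc, M'.mul _ hl' _ k2 c hc, k3 c hc]
  have := z2 (κ' (l⁻¹ * o).1.2 c)
  linear_combination this

theorem bext (M : MExt rw π κ) (M' : MExt rw π' κ') : MExt rw (bp M M') (bk M M') where
  surj s := by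
    obtain ⟨x, hx⟩ := M.surj s
    obtain ⟨y, hy⟩ := M'.surj s
    exact ⟨QuotientGroup.mk ⟨(x, y), by rw [mem_FL, hx, hy]⟩, hx⟩
  mul := by
    intro m hm n hn c hc
    obtain ⟨a, rfl⟩ := QuotientGroup.mk_surjective m
    obtain ⟨b, rfl⟩ := QuotientGroup.mk_surjective n
    have ha : π a.1.1 = 1 := hm
    have hb : π b.1.1 = 1 := hn
    have ha' : π' a.1.2 = 1 := by rw [← ha]; exact a.2.symm
    have hb' : π' b.1.2 = 1 := by rw [← hb]; exact b.2.symm
    have hab : π (a * b).1.1 = 1 := by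
      show π (a.1.1 * b.1.1) = 1
      rw [map_mul, ha, hb, one_mul]
    have e : (QuotientGroup.mk a * QuotientGroup.mk b : ↥(FL π π') ⧸ DL M M') = QuotientGroup.mk (a * b) := rfl
    rw [e, bk_mk M M' _ hab hc, bk_mk M M' _ ha hc, bk_mk M M' _ hb hc]
    show κ (a.1.1 * b.1.1) c + κ' (a.1.2 * b.1.2) c = _
    rw [M.mul _ ha _ hb c hc, M'.mul _ ha' _ hb' c hc]
    ring
  inj := by
    intro n hn h
    obtain ⟨a, rfl⟩ := QuotientGroup.mk_surjective n
    have ha : π a.1.1 = 1 := hn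
    have ha' : π' a.1.2 = 1 := by rw [← ha]; exact a.2.symm
    rw [QuotientGroup.eq_one_iff]
    refine ⟨ha, ha', fun c hc => ?_⟩
    have := h c hc
    rw [bk_mk M M' _ ha hc] at this
    exact z2e _ _ this
  sur y := by
    obtain ⟨n, hn, h⟩ := M.sur y
    have hl : π n = π' 1 := by rw [MonoidHom.mem_ker.1 hn, map_one]
    refine ⟨QuotientGroup.mk ⟨(n, 1), hl⟩, hn, fun c hc => ?_⟩
    rw [bk_mk M M' ⟨(n, 1), hl⟩ hn hc]
    show κ n c + κ' 1 c = y c
    rw [M'.one hc, add_zero, h c hc]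
  act := by
    intro g n hn c hc
    obtain ⟨a, rfl⟩ := QuotientGroup.mk_surjective g
    obtain ⟨b, rfl⟩ := QuotientGroup.mk_surjective n
    have hb : π b.1.1 = 1 := hn
    have hb' : π' b.1.2 = 1 := by rw [← hb]; exact b.2.symm
    have hab : π (a * b * a⁻¹).1.1 = 1 := by
      show π (a.1.1 * b.1.1 * (a.1.1)⁻¹) = 1
      rw [map_mul, map_mul, hb, mul_one, map_inv, mul_inv_cancel]
    have e : (QuotientGroup.mk a * QuotientGroup.mk b * (QuotientGroup.mk a)⁻¹ : ↥(FL π π') ⧸ DL M M') =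
      QuotientGroup.mk (a * b * a⁻¹) := rfl
    rw [e, bk_mk M M' _ hab hc, bp_mk]
    show κ (a.1.1 * b.1.1 * (a.1.1)⁻¹) c + κ' (a.1.2 * b.1.2 * (a.1.2)⁻¹) c = _
    have hg : π a.1.1 = π' a.1.2 := a.2
    rw [M.act _ _ hb c hc, M'.act _ _ hb' c hc, ← hg, ← Finset.sum_add_distrib]
    apply Finset.sum_congr rfl
    intro k hk
    rw [bk_mk M M' _ hb (Finset.mem_range.1 hk), mul_add]

theorem ev_bX (M : MExt rw π κ) (M' : MExt rw π' κ') {D : CData} (G : CGood D) {e : ℕ → E} {e' : ℕ → E'}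
    (he : ∀ i, π (e i) = gl D.T i) (he' : ∀ i, π' (e' i) = gl D.T i) (L : ℕ) :
    ev (X 11 (bk M M') (fun i => (QuotientGroup.mk ⟨(e i, e' i), by rw [mem_FL, he, he']⟩ : ↥(FL π π') ⧸ DL M M')) D.rules) L =
      ev (X 11 κ e D.rules) L + ev (X 11 κ' e' D.rules) L := by
  rw [← ev_add]
  congr 1
  funext k
  unfold X
  have hv : ∀ w : List ℕ, ∃ h : (val e w, val e' w) ∈ FL π π',
      val (fun i => (QuotientGroup.mk ⟨(e i, e' i), by rw [mem_FL, he, he']⟩ : ↥(FL π π') ⧸ DL M M')) w =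
        QuotientGroup.mk ⟨(val e w, val e' w), h⟩ := by
    intro w
    induction w with
    | nil => exact ⟨(FL π π').one_mem, rfl⟩
    | cons i w ih =>
      obtain ⟨h, hw⟩ := ih
      refine ⟨?_, ?_⟩
      · rw [mem_FL]
        show π (val e (i :: w)) = π' (val e' (i :: w))
        rw [map_val (D := D) π he, map_val (D := D) π' he']
      · rw [val_cons, hw]
        have e1 := val_cons e i w
        have e2 := val_cons e' i w
        simp only [e1, e2]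
        rfl
  obtain ⟨h1, hw1⟩ := hv (D.rules.getD (k / 11) ([], [])).1
  obtain ⟨h2, hw2⟩ := hv (D.rules.getD (k / 11) ([], [])).2
  have h3 : (nr e D.rules (k / 11), nr e' D.rules (k / 11)) ∈ FL π π' := by
    rw [mem_FL]
    have a1 := MonoidHom.mem_ker.1 (nr_mem G he (k / 11))
    have a2 := MonoidHom.mem_ker.1 (nr_mem G he' (k / 11))
    show π (nr e D.rules (k / 11)) = π' (nr e' D.rules (k / 11))
    rw [a1, a2]
  have h4 : nr (fun i => (QuotientGroup.mk ⟨(e i, e' i), by rw [mem_FL, he, he']⟩ : ↥(FL π π') ⧸ DL M M')) D.rules (k / 11) =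
      QuotientGroup.mk ⟨(nr e D.rules (k / 11), nr e' D.rules (k / 11)), h3⟩ := by
    unfold nr
    rw [hw1, hw2]
    rfl
  rw [h4]
  exact bk_mk M M' _ (MonoidHom.mem_ker.1 (nr_mem G he (k / 11))) (Nat.mod_lt _ (by norm_num))

/-- two non-split extensions are isomorphic -/
theorem MExt.iso [Finite E] [Finite E'] (M : MExt rw π κ) (M' : MExt rw π' κ') {D : CData} (G : CGood D) (hm : MatOK D rw)
    (hns : ∀ H : Subgroup E, H ⊓ π.ker = ⊥ → H ⊔ π.ker ≠ ⊤) (hns' : ∀ H : Subgroup E', H ⊓ π'.ker = ⊥ → H ⊔ π'.ker ≠ ⊤) :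
    Nonempty (E ≃* E') := by
  obtain ⟨e, he⟩ := exists_letters M D
  obtain ⟨e', he'⟩ := exists_letters M' D
  have t1 : ev (X 11 κ e D.rules) D.tau = 1 := by
    have hz : ∀ y : ZMod 2, y ≠ 0 → y = 1 := by decide
    apply hz
    intro h
    obtain ⟨H, h1, h2⟩ := M.split G hm he h
    exact hns H h1 h2
  have t2 : ev (X 11 κ' e' D.rules) D.tau = 1 := by
    have hz : ∀ y : ZMod 2, y ≠ 0 → y = 1 := by decide
    apply hz
    intro h
    obtain ⟨H, h1, h2⟩ := M'.split G hm he' h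
    exact hns' H h1 h2
  have B := bext M M'
  obtain ⟨H, hH1, hH2⟩ := B.split G hm
    (e := fun i => (QuotientGroup.mk ⟨(e i, e' i), by rw [mem_FL, he, he']⟩ : ↥(FL π π') ⧸ DL M M'))
    (fun i => he i) (by rw [ev_bX M M' G he he', t1, t2]; rfl)
  -- the graph
  set K : Subgroup ↥(FL π π') := H.comap (QuotientGroup.mk' (DL M M')) with hK
  have hsplit : ∀ l : ↥(FL π π'), ∃ k : ↥(FL π π'), π k.1.1 = 1 ∧ l * k ∈ K := by
    intro l
    have h1 : (QuotientGroup.mk l : ↥(FL π π') ⧸ DL M M') ∈ H ⊔ (bp M M').ker := by rw [hH2]; trivial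
    obtain ⟨h, hh, z, hz, hhz⟩ := Subgroup.mem_sup_of_normal_right.1 h1
    obtain ⟨k, rfl⟩ := QuotientGroup.mk_surjective z
    refine ⟨k⁻¹, ?_, ?_⟩
    · show π (k.1.1)⁻¹ = 1
      have : π k.1.1 = 1 := hz
      rw [map_inv, this, inv_one]
    · show (QuotientGroup.mk (l * k⁻¹) : ↥(FL π π') ⧸ DL M M') ∈ H
      have h2 : (QuotientGroup.mk (l * k⁻¹) : ↥(FL π π') ⧸ DL M M') = QuotientGroup.mk l * (QuotientGroup.mk k)⁻¹ := rfl
      rw [h2, ← hhz, mul_inv_cancel_right]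
      exact hh
  have hDK : ∀ x ∈ DL M M', x ∈ K := by
    intro x hx
    show (QuotientGroup.mk x : ↥(FL π π') ⧸ DL M M') ∈ H
    rw [(QuotientGroup.eq_one_iff x).2 hx]
    exact H.one_mem
  have hker : ∀ x ∈ K, π x.1.1 = 1 → x ∈ DL M M' := by
    intro x hx h
    rw [← QuotientGroup.eq_one_iff]
    have h1 : (QuotientGroup.mk x : ↥(FL π π') ⧸ DL M M') ∈ H ⊓ (bp M M').ker := ⟨hx, h⟩
    rw [hH1] at h1
    exact Subgroup.mem_bot.1 h1
  let p1 : K →* E := ((MonoidHom.fst E E').comp (FL π π').subtype).comp K.subtype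
  let p2 : K →* E' := ((MonoidHom.snd E E').comp (FL π π').subtype).comp K.subtype
  have b1 : Function.Bijective p1 := by
    constructor
    · rw [injective_iff_map_eq_one]
      rintro ⟨x, hx⟩ h
      have h1 : x.1.1 = 1 := h
      obtain ⟨-, k2, k3⟩ := hker x hx (by rw [h1, map_one])
      have h2 : x.1.2 = 1 := M'.inj _ k2 fun c hc => by rw [← k3 c hc, h1, M.one hc]
      apply Subtype.ext; apply Subtype.ext
      exact Prod.ext h1 h2
    · intro x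
      obtain ⟨y, hy⟩ := M'.surj (π x)
      obtain ⟨k, hk1, hk2⟩ := hsplit ⟨(x, y), hy.symm⟩
      obtain ⟨m, hm1, hm2⟩ := M'.sur (κ k.1.1)
      have hk1' : π k.1.1⁻¹ = 1 := by rw [map_inv, hk1, inv_one]
      have hd : (⟨(k.1.1⁻¹, m), by rw [mem_FL]; show π k.1.1⁻¹ = π' m; rw [hk1', MonoidHom.mem_ker.1 hm1]⟩ : ↥(FL π π')) ∈ DL M M' :=
        ⟨hk1', MonoidHom.mem_ker.1 hm1, fun c hc => by
          show κ k.1.1⁻¹ c = κ' m c
          rw [M.inv hk1 hc, hm2 c hc]⟩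
      refine ⟨⟨_, K.mul_mem hk2 (hDK _ hd)⟩, ?_⟩
      show x * k.1.1 * k.1.1⁻¹ = x
      group
  have b2 : Function.Bijective p2 := by
    constructor
    · rw [injective_iff_map_eq_one]
      rintro ⟨x, hx⟩ h
      have h1 : x.1.2 = 1 := h
      have h0 : π x.1.1 = 1 := by
        have : π x.1.1 = π' x.1.2 := x.2
        rw [this, h1, map_one]
      obtain ⟨-, -, k3⟩ := hker x hx h0
      have h2 : x.1.1 = 1 := M.inj _ h0 fun c hc => by rw [k3 c hc, h1, M'.one hc]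
      apply Subtype.ext; apply Subtype.ext
      exact Prod.ext h2 h1
    · intro y
      obtain ⟨x, hx⟩ := M.surj (π' y)
      obtain ⟨k, hk1, hk2⟩ := hsplit ⟨(x, y), hx⟩
      have hk2' : π' k.1.2 = 1 := by rw [← hk1]; exact k.2.symm
      obtain ⟨m, hm1, hm2⟩ := M.sur (κ' k.1.2)
      have hk1' : π' k.1.2⁻¹ = 1 := by rw [map_inv, hk2', inv_one]
      have hd : (⟨(m, k.1.2⁻¹), by rw [mem_FL]; show π m = π' k.1.2⁻¹; rw [hk1', MonoidHom.mem_ker.1 hm1]⟩ : ↥(FL π π')) ∈ DL M M' :=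
        ⟨MonoidHom.mem_ker.1 hm1, hk1', fun c hc => by
          show κ m c = κ' k.1.2⁻¹ c
          rw [M'.inv hk2' hc, hm2 c hc]⟩
      refine ⟨⟨_, K.mul_mem hk2 (hDK _ hd)⟩, ?_⟩
      show y * k.1.2 * k.1.2⁻¹ = y
      group
  exact ⟨(MulEquiv.ofBijective p1 b1).symm.trans (MulEquiv.ofBijective p2 b2)⟩

end

end Cfsg.Agent.MulX.CohM
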