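import Cfsg.Agent.MulX.Coh
import Cfsg.Agent.Fus.MatM23
import Cfsg.Agent.HH.M23Ext2

/-!
# Extensions of `M23` by modules of dimension 11 over the field with two elements (owner: helper58)
-/

set_option autoImplicit false

namespace Cfsg.Agent.MulX.CohM

open Cfsg Cfsg.Agent.Golay Cfsg.Agent.Fus.Mat Cfsg.Agent.MulX.Coh Cfsg.Agent.HH.M23E

/-- rows of the identity matrix -/
def idRows : List ℕ := [1, 2, 4, 8, 16, 32, 64, 128, 256, 512, 1024]

/-- data of a computation -/
structure CData where
  T : List ℕ
  TI : List ℕ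
  rules : List (List ℕ × List ℕ)
  mats : List (List ℕ)
  paths : List (List ℕ × List Step × List ℕ)
  ns : ℕ
  gauge : List ℕ
  rows : List ℕ
  tau : ℕ
  certs : List (List (ℕ × ℕ))
  keys : List ℕ

/-- matrices of the letters -/
def CData.mat (D : CData) (i : ℕ) : List ℕ := D.mats.getD i idRows

/-- equality of lists -/
def beqL : List ℕ → List ℕ → Bool
  | [], [] => true
  | a :: l, b :: m => match Nat.beq a b with
    | true => beqL l m
    | false => false
  | _, _ => false

theorem beqL_spec : ∀ {l m : List ℕ}, beqL l m = true → l = m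
  | [], [], _ => rfl
  | a :: l, b :: m, h => by
    have h1 : (match Nat.beq a b with
      | true => beqL l m
      | false => false) = true := h
    cases hb : Nat.beq a b with
    | true => rw [hb] at h1; rw [Nat.eq_of_beq_eq_true hb, beqL_spec h1]
    | false => rw [hb] at h1; cases h1
  | [], _ :: _, h => by cases h
  | _ :: _, [], h => by cases h

/-- the word of a number -/
def bitw (b : ℕ) : List ℕ := (List.range 7).filter fun i => b.testBit i

/-- base points -/
def bps : List ℕ := [0, 1, 2, 3, 4, 5, 6, 7]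

/-- key of a table -/
def key (t : ℕ) : ℕ := List.rec (motive := fun _ => ℕ) 0 (fun p _ ih => Nat.add (Nat.mul 32 ih) (papp t p)) bps

/-- rows of the paths -/
def pathRows (D : CData) : List ℕ :=
  D.paths.flatMap fun p => p.2.2.map fun c => rowOf 11 D.rules D.mat (Nat.shiftLeft 1 c) p.2.1 p.1

/-- checks -/
structure CGood (D : CData) : Prop where
  hT : allL valM23 D.T = true
  hrules : (D.rules.all fun p => Nat.beq (wtab D.T p.1) (wtab D.T p.2)) = true
  hlen : (D.mats.all fun r => Nat.beq r.length 11 && r.all fun x => Nat.blt x 2048) = true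
  hpath : (D.paths.all fun p => match run D.rules p.2.1 p.1 with
    | some w => beqL w p.1
    | none => false) = true
  hcs : (D.paths.all fun p => p.2.2.all fun c => Nat.blt c 11) = true
  hrows : beqL (pathRows D) D.rows = true
  hpc : pcOK 7 D.ns D.rules = true
  hcert : ((List.range D.ns).all fun r => (List.range 11).all fun c =>
    Nat.beq (Nat.xor (tgt 11 D.rules D.mat D.gauge r c) (comp [D.tau] (((D.certs.getD r []).getD c (0, 0)).2)))
      (comp D.rows (((D.certs.getD r []).getD c (0, 0)).1))) = true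
  hkeys : beqL ((List.range 128).map fun b => key (wtab D.T (bitw b))) D.keys = true
  hnod : D.keys.Nodup

/-! ### Letters -/

/-- the letter `i` -/
noncomputable def gl (T : List ℕ) (i : ℕ) : Spor.M23 :=
  open Classical in
  if h : valM23 (T.getD i Fus.Mat.idTab) = true then ⟨permOf (T.getD i Fus.Mat.idTab), (valM23_spec _ h).2⟩ else 1

theorem valM23_id : valM23 Fus.Mat.idTab = true := by decide +kernel

theorem valM23_getD {T : List ℕ} (h : allL valM23 T = true) (i : ℕ) : valM23 (T.getD i Fus.Mat.idTab) = true := by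
  by_cases hi : i < T.length
  · rw [List.getD_eq_getElem _ _ hi]
    exact allL_iff.mp h _ (List.getElem_mem hi)
  · rw [List.getD_eq_default _ _ (not_lt.mp hi)]
    exact valM23_id

theorem validL_of {T : List ℕ} (h : allL valM23 T = true) : validL T = true :=
  allL_iff.2 fun n hn => (valM23_spec n (allL_iff.1 h n hn)).1

theorem gl_coe {T : List ℕ} (h : allL valM23 T = true) (i : ℕ) :
    ((gl T i : Spor.M23) : Equiv.Perm GolayPt) = permOf (T.getD i Fus.Mat.idTab) := by
  unfold gl
  rw [dif_pos (valM23_getD h i)]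

theorem val_gl {T : List ℕ} (h : allL valM23 T = true) (w : List ℕ) :
    ((val (gl T) w : Spor.M23) : Equiv.Perm GolayPt) = wperm T w := by
  induction w with
  | nil => rfl
  | cons i w ih =>
    rw [val_cons, Subgroup.coe_mul, ih, gl_coe h]
    simp [wperm]

theorem gl_big {T : List ℕ} (h : allL valM23 T = true) {i : ℕ} (hi : T.length ≤ i) : gl T i = 1 := by
  apply Subtype.ext
  rw [gl_coe h, List.getD_eq_default _ _ hi, permOf_id]
  rfl

section

variable {D : CData}

theorem CGood.rule (G : CGood D) (r : ℕ) :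
    val (gl D.T) (D.rules.getD r ([], [])).1 = val (gl D.T) (D.rules.getD r ([], [])).2 := by
  by_cases hr : r < D.rules.length
  · rw [List.getD_eq_getElem _ _ hr]
    have h := (List.all_eq_true.1 G.hrules) _ (List.getElem_mem hr)
    have h2 := Nat.eq_of_beq_eq_true h
    apply Subtype.ext
    rw [val_gl G.hT, val_gl G.hT]
    have h3 := isTable_wtab (validL_of G.hT) (D.rules[r]).1
    rw [h2] at h3
    exact isTable_unique h3 (isTable_wtab (validL_of G.hT) (D.rules[r]).2)
  · rw [List.getD_eq_default _ _ (not_lt.mp hr)]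

theorem CGood.card (G : CGood D) : Nat.card ↥(Subgroup.closure (gl D.T '' {i | i < 7})) = 2 ^ 7 := by
  apply le_antisymm
  · exact card_pc (gl D.T) G.hpc fun r _ => G.rule r
  · have hk := beqL_spec G.hkeys
    have hmem : ∀ b, val (gl D.T) (bitw b) ∈ Subgroup.closure (gl D.T '' {i | i < 7}) := by
      intro b
      apply val_mem_closure
      intro a ha
      exact List.mem_range.1 (List.mem_filter.1 ha).1
    let f : Fin 128 → ↥(Subgroup.closure (gl D.T '' {i | i < 7})) := fun b => ⟨val (gl D.T) (bitw b), hmem b⟩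
    have hf : Function.Injective f := by
      intro a b hab
      have h1 : wperm D.T (bitw a) = wperm D.T (bitw b) := by
        rw [← val_gl G.hT, ← val_gl G.hT]
        exact congrArg (fun x : ↥(Subgroup.closure (gl D.T '' {i | i < 7})) => ((x : Spor.M23) : Equiv.Perm GolayPt)) hab
      have ha := isTable_wtab (validL_of G.hT) (bitw a)
      have hb := isTable_wtab (validL_of G.hT) (bitw b)
      rw [h1] at ha
      have h2 : ∀ i < 24, papp (wtab D.T (bitw a)) i = papp (wtab D.T (bitw b)) i := by
        intro i hi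
        have e1 := ha (pt i)
        have e2 := hb (pt i)
        rw [idx_pt hi] at e1 e2
        rw [← e1, ← e2]
      have h3 : key (wtab D.T (bitw a)) = key (wtab D.T (bitw b)) := by
        have e0 := h2 0 (by norm_num)
        have e1 := h2 1 (by norm_num)
        have e2 := h2 2 (by norm_num)
        have e3 := h2 3 (by norm_num)
        have e4 := h2 4 (by norm_num)
        have e5 := h2 5 (by norm_num)
        have e6 := h2 6 (by norm_num)
        have e7 := h2 7 (by norm_num)
        show Nat.add (Nat.mul 32 (Nat.add (Nat.mul 32 (Nat.add (Nat.mul 32 (Nat.add (Nat.mul 32 (Nat.add (Nat.mul 32 (Nat.add (Nat.mul 32 (Nat.add (Nat.mul 32 (Nat.add (Nat.mul 32 0) (papp (wtab D.T (bitw a)) 7))) (papp (wtab D.T (bitw a)) 6))) (papp (wtab D.T (bitw a)) 5))) (papp (wtab D.T (bitw a)) 4))) (papp (wtab D.T (bitw a)) 3))) (papp (wtab D.T (bitw a)) 2))) (papp (wtab D.T (bitw a)) 1))) (papp (wtab D.T (bitw a)) 0) = _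
        rw [e0, e1, e2, e3, e4, e5, e6, e7]
        rfl
      have hlen : ((List.range 128).map fun b => key (wtab D.T (bitw b))).length = 128 := by simp
      have hnd : ((List.range 128).map fun b => key (wtab D.T (bitw b))).Nodup := by rw [hk]; exact G.hnod
      have h4 : ((List.range 128).map fun b => key (wtab D.T (bitw b)))[(a : ℕ)]'(by rw [hlen]; exact a.2) =
          ((List.range 128).map fun b => key (wtab D.T (bitw b)))[(b : ℕ)]'(by rw [hlen]; exact b.2) := by
        simp only [List.getElem_map, List.getElem_range]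
        exact h3
      exact Fin.ext ((hnd.getElem_inj_iff).1 h4)
    have h5 := Nat.card_le_card_of_injective f hf
    rw [Nat.card_fin] at h5
    exact h5

theorem CGood.odd (G : CGood D) : Odd (Subgroup.closure (gl D.T '' {i | i < 7})).index := by
  have h := (Subgroup.closure (gl D.T '' {i | i < 7})).card_mul_index
  rw [G.card, card_M23] at h
  have h2 : (Subgroup.closure (gl D.T '' {i | i < 7})).index = 79695 := by omega
  rw [h2]
  decide

end

/-! ### Extensions -/

/-- extension of `M23` by a module with matrix coefficients `rw` -/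
structure MExt {E : Type*} [Group E] (rw : Spor.M23 → ℕ → ℕ → ZMod 2) (π : E →* Spor.M23) (κ : E → ℕ → ZMod 2) : Prop where
  surj : Function.Surjective π
  mul : ∀ m ∈ π.ker, ∀ n ∈ π.ker, ∀ c < 11, κ (m * n) c = κ m c + κ n c
  inj : ∀ n ∈ π.ker, (∀ c < 11, κ n c = 0) → n = 1
  sur : ∀ y : ℕ → ZMod 2, ∃ n ∈ π.ker, ∀ c < 11, κ n c = y c
  act : ∀ g : E, ∀ n ∈ π.ker, ∀ c < 11, κ (g * n * g⁻¹) c = ∑ k ∈ Finset.range 11, rw (π g) c k * κ n k

theorem ev_sum (d : ℕ) : ∀ (x : ℕ → ZMod 2) (L : ℕ), L < 2 ^ d →
    ev x L = ∑ k ∈ Finset.range d, (if L.testBit k then 1 else 0) * x k := by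
  induction d with
  | zero =>
    intro x L hL
    have : L = 0 := by simpa using hL
    subst this; rw [ev_zero]; simp
  | succ d ih =>
    intro x L hL
    rw [ev_bit, ih _ (L / 2) (by rw [pow_succ] at hL; omega), Finset.sum_range_succ', add_comm]
    congr 1
    · apply Finset.sum_congr rfl
      intro k _
      rw [Nat.testBit_succ]
    · rw [Nat.testBit_zero]
      by_cases h : L % 2 = 1
      · simp [h]
      · simp [h]

/-- the matrices of the letters are as in the data -/
def MatOK (D : CData) (rw : Spor.M23 → ℕ → ℕ → ZMod 2) : Prop :=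
  ∀ i, ∀ c < 11, ∀ k < 11, rw (gl D.T i) c k = if ((D.mat i).getD c 0).testBit k then 1 else 0

section

variable {E : Type*} [Group E] {rw : Spor.M23 → ℕ → ℕ → ZMod 2} {π : E →* Spor.M23} {κ : E → ℕ → ZMod 2} {D : CData}

theorem MExt.sq (M : MExt rw π κ) : ∀ n ∈ π.ker, n * n = 1 := by
  intro n hn
  apply M.inj _ (π.ker.mul_mem hn hn)
  intro c hc
  rw [M.mul n hn n hn c hc]
  have : ∀ y : ZMod 2, y + y = 0 := by decide
  exact this _

theorem mat_len (G : CGood D) (i : ℕ) : (D.mat i).length = 11 := by
  unfold CData.mat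
  by_cases hi : i < D.mats.length
  · rw [List.getD_eq_getElem _ _ hi]
    have h := (List.all_eq_true.1 G.hlen) _ (List.getElem_mem hi)
    rw [Bool.and_eq_true] at h
    exact Nat.eq_of_beq_eq_true h.1
  · rw [List.getD_eq_default _ _ (not_lt.mp hi)]; rfl

theorem mat_bnd (G : CGood D) (i : ℕ) : ∀ c < 11, (D.mat i).getD c 0 < 2 ^ 11 := by
  intro c hc
  have hl := mat_len G i
  unfold CData.mat at hl ⊢
  by_cases hi : i < D.mats.length
  · rw [List.getD_eq_getElem _ _ hi] at hl ⊢
    have h := (List.all_eq_true.1 G.hlen) _ (List.getElem_mem hi)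
    rw [Bool.and_eq_true] at h
    rw [List.getD_eq_getElem _ _ (by rw [hl]; exact hc)]
    have h2 := (List.all_eq_true.1 h.2) _ (List.getElem_mem (by rw [hl]; exact hc))
    simpa [Nat.blt_eq] using h2
  · rw [List.getD_eq_default _ _ (not_lt.mp hi)]
    have : ∀ c < 11, idRows.getD c 0 < 2 ^ 11 := by decide
    exact this c hc

theorem MExt.toAct (M : MExt rw π κ) (G : CGood D) (hm : MatOK D rw) {e : ℕ → E} (he : ∀ i, π (e i) = gl D.T i) :
    Act 11 π.ker κ e D.mat where
  hd := by norm_num
  nor := inferInstance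
  mul := M.mul
  len := mat_len G
  bnd := mat_bnd G
  act i n hn c hc := by
    rw [M.act (e i) n hn c hc, he, ev_sum 11 _ _ (mat_bnd G i c hc)]
    apply Finset.sum_congr rfl
    intro k hk
    rw [hm i c hc k (Finset.mem_range.1 hk)]

theorem map_val (π : E →* Spor.M23) {e : ℕ → E} (he : ∀ i, π (e i) = gl D.T i) (w : List ℕ) :
    π (val e w) = val (gl D.T) w := by
  induction w with
  | nil => simp [val]
  | cons i w ih => rw [val_cons, val_cons, map_mul, ih, he]

theorem nr_mem (G : CGood D) {e : ℕ → E} (he : ∀ i, π (e i) = gl D.T i) (r : ℕ) : nr e D.rules r ∈ π.ker := by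
  rw [MonoidHom.mem_ker]
  unfold nr
  rw [map_mul, map_inv, map_val π he, map_val π he, G.rule r, mul_inv_cancel]

theorem MExt.rows (M : MExt rw π κ) (G : CGood D) (hm : MatOK D rw) {e : ℕ → E} (he : ∀ i, π (e i) = gl D.T i) :
    ∀ r ∈ D.rows, ev (X 11 κ e D.rules) r = 0 := by
  intro r hr
  rw [← beqL_spec G.hrows] at hr
  unfold pathRows at hr
  obtain ⟨p, hp, hr2⟩ := List.mem_flatMap.1 hr
  obtain ⟨c, hc, rfl⟩ := List.mem_map.1 hr2
  have h1 := (List.all_eq_true.1 G.hpath) p hp
  have h2 := (List.all_eq_true.1 ((List.all_eq_true.1 G.hcs) p hp)) c hc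
  have hc11 : c < 11 := by simpa [Nat.blt_eq] using h2
  apply ev_closed (M.toAct G hm he) (nr_mem G he) M.sq (w := p.1)
  · cases h3 : run D.rules p.2.1 p.1 with
    | none => rw [h3] at h1; cases h1
    | some w =>
      rw [h3] at h1
      rw [beqL_spec h1]
  · show 1 <<< c < 2 ^ 11
    rw [Nat.shiftLeft_eq, one_mul]; exact Nat.pow_lt_pow_right (by norm_num) hc11

/-- **splitting** -/
theorem MExt.split [Finite E] (M : MExt rw π κ) (G : CGood D) (hm : MatOK D rw) {e : ℕ → E}
    (he : ∀ i, π (e i) = gl D.T i) (ht : ev (X 11 κ e D.rules) D.tau = 0) :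
    ∃ H : Subgroup E, H ⊓ π.ker = ⊥ ∧ H ⊔ π.ker = ⊤ := by
  obtain ⟨v, hv, hvr⟩ := exists_lift (M.toAct G hm he) (nr_mem G he) M.sq M.sur M.inj (ns := D.ns)
    (gauge := D.gauge) (rows := D.rows) (tau := D.tau) (M.rows G hm he) ht (by
      intro r hr c hc
      have h := (List.all_eq_true.1 ((List.all_eq_true.1 G.hcert) r (List.mem_range.2 hr))) c (List.mem_range.2 hc)
      exact ⟨_, _, Nat.eq_of_beq_eq_true h⟩)
  exact split_of_rules π M.surj M.sq he G.hpc G.card.ge G.odd hv hvr

theorem exists_letters (M : MExt rw π κ) (D : CData) : ∃ e : ℕ → E, ∀ i, π (e i) = gl D.T i := by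
  choose e he using fun i => M.surj (gl D.T i)
  exact ⟨e, he⟩

end

end Cfsg.Agent.MulX.CohM
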