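import Cfsg.Agent.MulX.CohIso
import Cfsg.Agent.MulX.CohC0
import Cfsg.Agent.MulX.CohCo

/-!
# Extensions of `M23` by the even half of the Golay code and by the cocode (owner: helper58)
-/

set_option autoImplicit false

namespace Cfsg.Agent.MulX.CohM

open Cfsg Cfsg.Agent.Golay Cfsg.Agent.Fus.Mat Cfsg.Agent.MulX.Coh Cfsg.Agent.HH.M23E Cfsg.Agent.M24X

/-- basis words -/
def bb (k : ℕ) : V24 := wd (codeBasis.getD k 0)

/-- information positions -/
def iq (k : ℕ) : GolayPt := pt (12 + k)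

theorem bb_fin (k : Fin 11) : bb k = bw k := rfl
theorem iq_fin (k : Fin 11) : iq k = ip k := rfl

theorem bb_iq {i j : ℕ} (hi : i < 11) (hj : j < 11) : bb j (iq i) = if i = j then 1 else 0 := by
  have h := bw_ip ⟨i, hi⟩ ⟨j, hj⟩
  have e : ((⟨i, hi⟩ : Fin 11) = ⟨j, hj⟩) = (i = j) := by simp
  have h2 : bb j (iq i) = bw ⟨j, hj⟩ (ip ⟨i, hi⟩) := rfl
  rw [h2, h]
  by_cases hij : i = j
  · subst hij; simp
  · rw [if_neg hij, if_neg]
    rw [e]; exact hij

theorem expand_val {w : V24} (hw : w ∈ C0) (p : GolayPt) : w p = ∑ k ∈ Finset.range 11, bb k p * w (iq k) := by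
  have h := congrArg (fun x : C0 => (x : V24) p) (expand ⟨w, hw⟩)
  have hs : ((∑ i, cC i ⟨w, hw⟩ • bC i : C0) : V24) = ∑ i, w (ip i) • bw i := by
    rw [Submodule.coe_sum]; rfl
  simp only [hs] at h
  rw [h, Finset.sum_apply, ← Fin.sum_univ_eq_sum_range (fun k => bb k p * w (iq k)) 11]
  apply Finset.sum_congr rfl
  intro k _
  show w (ip k) * bw k p = bw k p * w (ip k)
  ring

/-! ### the code -/

/-- matrix coefficients on the code -/
def rwC (s : Spor.M23) (c k : ℕ) : ZMod 2 := bb k ((s : Equiv.Perm GolayPt)⁻¹ (iq c))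

theorem ofT {D : CData} {n : ℕ} (h : D.T.length = n) (h2 : D.TI.length = n) (h3 : D.mats.length = n) (i : ℕ) :
    ∃ j ∈ List.range (n + 1), D.T.getD i Fus.Mat.idTab = D.T.getD j Fus.Mat.idTab ∧
      D.TI.getD i Fus.Mat.idTab = D.TI.getD j Fus.Mat.idTab ∧ D.mat i = D.mat j := by
  by_cases hi : i < n
  · exact ⟨i, List.mem_range.2 (by omega), rfl, rfl, rfl⟩
  · refine ⟨n, List.mem_range.2 (by omega), ?_, ?_, ?_⟩
    · rw [List.getD_eq_default _ _ (by omega), List.getD_eq_default _ _ (by omega)]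
    · rw [List.getD_eq_default _ _ (by omega), List.getD_eq_default _ _ (by omega)]
    · unfold CData.mat
      rw [List.getD_eq_default _ _ (by omega), List.getD_eq_default _ _ (by omega)]

theorem matC : MatOK CohC0.D rwC := by
  intro i c hc k hk
  obtain ⟨j, hj, e1, e2, e3⟩ := ofT (D := CohC0.D) (n := 10) rfl rfl rfl i
  have hi := (List.all_eq_true.1 CohC0.inv_ok) j hj
  rw [Bool.and_eq_true] at hi
  have hv := hi.1
  have hm := Nat.eq_of_beq_eq_true hi.2
  rw [← e1, ← e2] at hm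
  rw [← e2] at hv
  have hg := gl_coe CohC0.good.hT i
  have ht := isTable_permOf (validL_getD (validL_of CohC0.good.hT) i)
  have ht2 := isTable_permOf hv
  have h1 : permOf (CohC0.D.TI.getD i Fus.Mat.idTab) = (permOf (CohC0.D.T.getD i Fus.Mat.idTab))⁻¹ := by
    apply eq_inv_of_mul_eq_one_left
    have h3 := IsTable.tmul ht2 ht
    rw [hm] at h3
    exact isTable_unique h3 isTable_id
  have hb := (List.all_eq_true.1 ((List.all_eq_true.1 ((List.all_eq_true.1 CohC0.mat_ok) j hj)) c (List.mem_range.2 hc))) k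
    (List.mem_range.2 hk)
  rw [← e2, ← e3] at hb
  rw [← eq_of_beq hb]
  unfold rwC bb wd iq
  rw [hg, ← h1, ht2, idx_pt (by omega)]

section

variable {E : Type*} [Group E] (N : Subgroup E) [hN : N.Normal] (φ : E ⧸ N ≃* ↥Cfsg.Spor.M23)

/-- the projection -/
def pr : E →* Spor.M23 := φ.toMonoidHom.comp (QuotientGroup.mk' N)

theorem pr_ker : (pr N φ).ker = N := by
  ext x
  rw [MonoidHom.mem_ker]
  show φ (QuotientGroup.mk x) = 1 ↔ x ∈ N
  rw [map_eq_one_iff _ φ.injective, QuotientGroup.eq_one_iff]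

theorem pr_surj : Function.Surjective (pr N φ) := φ.surjective.comp (QuotientGroup.mk'_surjective N)

open Classical in
/-- coordinates of the words -/
noncomputable def kC (ψ : Additive ↥N →+ (Cfsg.GolayPt → ZMod 2)) (x : E) (c : ℕ) : ZMod 2 :=
  if h : x ∈ N then ψ (Additive.ofMul ⟨x, h⟩) (iq c) else 0

theorem kC_eq (ψ : Additive ↥N →+ (Cfsg.GolayPt → ZMod 2)) {x : E} (h : x ∈ N) (c : ℕ) :
    kC N ψ x c = ψ (Additive.ofMul ⟨x, h⟩) (iq c) := by
  unfold kC
  rw [dif_pos h]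

theorem mextC (ψ : Additive ↥N →+ (Cfsg.GolayPt → ZMod 2)) (hinj : Function.Injective ψ)
    (hrange : ∀ w : Cfsg.GolayPt → ZMod 2, w ∈ Set.range ψ ↔ (w ∈ Cfsg.golayCode ∧ w none = 0))
    (hψ : ∀ (g : E) (n : ↥N),
      ψ (Additive.ofMul ⟨g * n * g⁻¹, hN.conj_mem n n.2 g⟩)
        = ψ (Additive.ofMul n) ∘ ⇑(((φ (QuotientGroup.mk g) : ↥Cfsg.Spor.M23) : Equiv.Perm Cfsg.GolayPt)⁻¹)) :
    MExt rwC (pr N φ) (kC N ψ) where
  surj := pr_surj N φ
  mul := by
    intro m hm n hn c _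
    rw [pr_ker] at hm hn
    rw [kC_eq N ψ (N.mul_mem hm hn), kC_eq N ψ hm, kC_eq N ψ hn]
    have h : (Additive.ofMul (⟨m * n, N.mul_mem hm hn⟩ : N)) = Additive.ofMul (⟨m, hm⟩ : N) + Additive.ofMul (⟨n, hn⟩ : N) := rfl
    rw [h, map_add]; rfl
  inj := by
    intro n hn h
    rw [pr_ker] at hn
    have hmem : ψ (Additive.ofMul ⟨n, hn⟩) ∈ C0 := mem_C0.2 ((hrange _).1 ⟨_, rfl⟩)
    have h0 : ψ (Additive.ofMul ⟨n, hn⟩) = 0 := by
      funext p
      rw [expand_val hmem]
      apply Finset.sum_eq_zero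
      intro k hk
      have := h k (Finset.mem_range.1 hk)
      rw [kC_eq N ψ hn] at this
      rw [this, mul_zero]
    have h1 : Additive.ofMul (⟨n, hn⟩ : N) = 0 := hinj (by rw [h0, map_zero])
    exact congrArg Subtype.val (show (⟨n, hn⟩ : N) = 1 from h1)
  sur y := by
    have hw : (∑ k : Fin 11, y k • bw k) ∈ C0 := Submodule.sum_mem _ fun k _ => Submodule.smul_mem _ _ (bw_mem k)
    obtain ⟨n, hn⟩ := (hrange _).2 (mem_C0.1 hw)
    have hmem : (n.toMul : E) ∈ N := n.toMul.2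
    refine ⟨(n.toMul : E), by rw [pr_ker]; exact hmem, fun c hc => ?_⟩
    rw [kC_eq N ψ hmem]
    have h1 : Additive.ofMul (⟨(n.toMul : E), hmem⟩ : N) = n := rfl
    rw [h1, hn, Finset.sum_apply]
    have h2 : ∀ k : Fin 11, (y k • bw k) (iq c) = y k * (if c = k then 1 else 0) := by
      intro k
      show y k * bb k (iq c) = _
      rw [bb_iq hc k.2]
    rw [Finset.sum_congr rfl fun k _ => h2 k, Finset.sum_eq_single (⟨c, hc⟩ : Fin 11)]
    · simp
    · intro b _ hb
      rw [if_neg, mul_zero]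
      intro h3
      exact hb (Fin.ext h3.symm)
    · intro h3; exact absurd (Finset.mem_univ _) h3
  act := by
    intro g n hn c hc
    rw [pr_ker] at hn
    rw [kC_eq N ψ (hN.conj_mem n hn g), hψ g ⟨n, hn⟩]
    have hmem : ψ (Additive.ofMul ⟨n, hn⟩) ∈ C0 := mem_C0.2 ((hrange _).1 ⟨_, rfl⟩)
    show ψ (Additive.ofMul ⟨n, hn⟩) (((φ (QuotientGroup.mk g) : ↥Cfsg.Spor.M23) : Equiv.Perm Cfsg.GolayPt)⁻¹ (iq c)) = _
    rw [expand_val hmem]
    apply Finset.sum_congr rfl
    intro k _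
    rw [kC_eq N ψ hn]
    rfl

end

/-! ### the cocode -/

/-- matrix coefficients on the cocode -/
def rwD (s : Spor.M23) (c k : ℕ) : ZMod 2 := bb c ((s : Equiv.Perm GolayPt) (iq k))

theorem matD : MatOK CohCo.D rwD := by
  intro i c hc k hk
  obtain ⟨j, hj, e1, e2, e3⟩ := ofT (D := CohCo.D) (n := 9) rfl rfl rfl i
  have hg := gl_coe CohCo.good.hT i
  have ht := isTable_permOf (validL_getD (validL_of CohCo.good.hT) i)
  have hb := (List.all_eq_true.1 ((List.all_eq_true.1 ((List.all_eq_true.1 CohCo.mat_ok) j hj)) c (List.mem_range.2 hc))) k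
    (List.mem_range.2 hk)
  rw [← e1, ← e3] at hb
  rw [← eq_of_beq hb]
  unfold rwD bb wd iq
  rw [hg, ht, idx_pt (by omega)]

/-- pairing -/
def dt (w x : V24) : ZMod 2 := ∑ p, w p * x p

theorem dt_add (w w' x : V24) : dt (w + w') x = dt w x + dt w' x := by
  unfold dt
  rw [← Finset.sum_add_distrib]
  apply Finset.sum_congr rfl
  intro p _
  rw [Pi.add_apply]; ring

theorem perp_iff (w : V24) : (∀ c < 11, dt w (bb c) = 0) ↔ (w ∈ golayCode ∨ w + Pi.single none 1 ∈ golayCode) := by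
  rw [← thE_zero_iff]
  constructor
  · intro h
    apply congrArg Additive.ofMul
    apply Subtype.ext
    apply E.ext
    · rfl
    · funext x
      show ∑ p, w p * (x : V24) p = 0
      have h1 : ∀ p, w p * (x : V24) p = ∑ k ∈ Finset.range 11, (x : V24) (iq k) * (w p * bb k p) := by
        intro p
        rw [expand_val x.2 p, Finset.mul_sum]
        apply Finset.sum_congr rfl
        intro k _; ring
      rw [Finset.sum_congr rfl fun p _ => h1 p, Finset.sum_comm]
      apply Finset.sum_eq_zero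
      intro k hk
      rw [← Finset.mul_sum]
      have h2 : ∑ p, w p * bb k p = 0 := h k (Finset.mem_range.1 hk)
      rw [h2, mul_zero]
  · intro h c hc
    have h1 := thE_val_f w ⟨bb c, bw_mem ⟨c, hc⟩⟩
    rw [h] at h1
    exact h1.symm

section

variable {E : Type*} [Group E] (N : Subgroup E) [hN : N.Normal] (φ : E ⧸ N ≃* ↥Cfsg.Spor.M23)

open Classical in
/-- coordinates of the cocode words -/
noncomputable def kD {θ : (Cfsg.GolayPt → ZMod 2) →+ Additive ↥N} (hsurj : Function.Surjective θ) (x : E) (c : ℕ) : ZMod 2 :=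
  if h : x ∈ N then dt (Function.surjInv hsurj (Additive.ofMul ⟨x, h⟩)) (bb c) else 0

theorem kD_eq {θ : (Cfsg.GolayPt → ZMod 2) →+ Additive ↥N} (hsurj : Function.Surjective θ)
    (hker : ∀ w : Cfsg.GolayPt → ZMod 2, θ w = 0 ↔ (w ∈ Cfsg.golayCode ∨ w + Pi.single none 1 ∈ Cfsg.golayCode))
    (w : V24) {c : ℕ} (hc : c < 11) : kD N hsurj (((θ w).toMul : N) : E) c = dt w (bb c) := by
  unfold kD
  have hmem : (((θ w).toMul : N) : E) ∈ N := (θ w).toMul.2
  rw [dif_pos hmem]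
  have h1 : Additive.ofMul (⟨(((θ w).toMul : N) : E), hmem⟩ : N) = θ w := rfl
  rw [h1]
  have h2 := Function.surjInv_eq hsurj (θ w)
  set u := Function.surjInv hsurj (θ w)
  have h3 : θ (u + w) = 0 := by
    rw [map_add, h2]
    have : θ w + θ w = θ (w + w) := (map_add _ _ _).symm
    rw [this]
    have h4 : w + w = 0 := by
      funext p
      exact z2 _
    rw [h4, map_zero]
  have h5 := ((perp_iff (u + w)).2 ((hker _).1 h3)) c hc
  rw [dt_add] at h5
  exact z2e _ _ h5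

theorem mextD {θ : (Cfsg.GolayPt → ZMod 2) →+ Additive ↥N} (hsurj : Function.Surjective θ)
    (hker : ∀ w : Cfsg.GolayPt → ZMod 2, θ w = 0 ↔ (w ∈ Cfsg.golayCode ∨ w + Pi.single none 1 ∈ Cfsg.golayCode))
    (hθ : ∀ (g : E) (w : Cfsg.GolayPt → ZMod 2),
      ((θ (w ∘ ⇑(((φ (QuotientGroup.mk g) : ↥Cfsg.Spor.M23) : Equiv.Perm Cfsg.GolayPt)⁻¹))).toMul : E)
        = g * ((θ w).toMul : E) * g⁻¹) :
    MExt rwD (pr N φ) (kD N hsurj) where
  surj := pr_surj N φ
  mul := by
    intro m hm n hn c hc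
    rw [pr_ker] at hm hn
    obtain ⟨u, hu⟩ := hsurj (Additive.ofMul ⟨m, hm⟩)
    obtain ⟨v, hv⟩ := hsurj (Additive.ofMul ⟨n, hn⟩)
    have e1 : m = (((θ u).toMul : N) : E) := by rw [hu]; rfl
    have e2 : n = (((θ v).toMul : N) : E) := by rw [hv]; rfl
    have e3 : m * n = (((θ (u + v)).toMul : N) : E) := by rw [map_add, hu, hv]; rfl
    rw [e3, kD_eq N hsurj hker _ hc, dt_add, ← kD_eq N hsurj hker u hc, ← kD_eq N hsurj hker v hc, ← e1, ← e2]
  inj := by
    intro n hn h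
    rw [pr_ker] at hn
    obtain ⟨u, hu⟩ := hsurj (Additive.ofMul ⟨n, hn⟩)
    have e1 : n = (((θ u).toMul : N) : E) := by rw [hu]; rfl
    have h0 : θ u = 0 := by
      rw [hker, ← perp_iff]
      intro c hc
      rw [← kD_eq N hsurj hker u hc, ← e1]
      exact h c hc
    rw [e1, h0]; rfl
  sur y := by
    refine ⟨(((θ (∑ k : Fin 11, y k • Pi.single (iq k) 1)).toMul : N) : E), by rw [pr_ker]; exact Subtype.property _, fun c hc => ?_⟩
    rw [kD_eq N hsurj hker _ hc]
    unfold dt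
    have h1 : ∀ p, (∑ k : Fin 11, y k • (Pi.single (iq k) 1 : V24)) p * bb c p = ∑ k : Fin 11, y k * ((Pi.single (iq k) 1 : V24) p * bb c p) := by
      intro p
      rw [Finset.sum_apply, Finset.sum_mul]
      apply Finset.sum_congr rfl
      intro k _
      rw [Pi.smul_apply, smul_eq_mul, mul_assoc]
    rw [Finset.sum_congr rfl fun p _ => h1 p, Finset.sum_comm]
    have h2 : ∀ k : Fin 11, ∑ p, y k * ((Pi.single (iq k) 1 : V24) p * bb c p) = y k * (if (k : ℕ) = c then 1 else 0) := by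
      intro k
      rw [← Finset.mul_sum, Finset.sum_eq_single (iq k)]
      · rw [Pi.single_eq_same, one_mul, bb_iq k.2 hc]
      · intro p _ hp
        rw [Pi.single_eq_of_ne hp, zero_mul]
      · intro h3; exact absurd (Finset.mem_univ _) h3
    rw [Finset.sum_congr rfl fun k _ => h2 k, Finset.sum_eq_single (⟨c, hc⟩ : Fin 11)]
    · simp
    · intro b _ hb
      rw [if_neg, mul_zero]
      intro h3
      exact hb (Fin.ext h3)
    · intro h3; exact absurd (Finset.mem_univ _) h3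
  act := by
    intro g n hn c hc
    rw [pr_ker] at hn
    obtain ⟨u, hu⟩ := hsurj (Additive.ofMul ⟨n, hn⟩)
    have e1 : n = (((θ u).toMul : N) : E) := by rw [hu]; rfl
    have e2 : g * n * g⁻¹ = (((θ (u ∘ ⇑(((φ (QuotientGroup.mk g) : ↥Cfsg.Spor.M23) : Equiv.Perm Cfsg.GolayPt)⁻¹))).toMul : N) : E) := by
      rw [e1]; exact (hθ g u).symm
    rw [e2, kD_eq N hsurj hker _ hc]
    set s : Spor.M23 := pr N φ g with hs
    have hs2 : (φ (QuotientGroup.mk g) : ↥Cfsg.Spor.M23) = s := rfl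
    rw [hs2]
    unfold dt
    have h3 : ∑ p, (u ∘ ⇑((s : Equiv.Perm GolayPt)⁻¹)) p * bb c p = ∑ p, u p * bb c ((s : Equiv.Perm GolayPt) p) := by
      rw [← Equiv.sum_comp (s : Equiv.Perm GolayPt)]
      apply Finset.sum_congr rfl
      intro p _
      have h4 : ((s : Equiv.Perm GolayPt)⁻¹ ((s : Equiv.Perm GolayPt) p)) = p := by
        rw [← Equiv.Perm.mul_apply, inv_mul_cancel]; rfl
      show u ((s : Equiv.Perm GolayPt)⁻¹ ((s : Equiv.Perm GolayPt) p)) * _ = _
      rw [h4]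
    rw [h3]
    have hmem : (fun p => bb c ((s : Equiv.Perm GolayPt) p)) ∈ C0 := by
      have h4 := (act s⁻¹ ⟨bb c, bw_mem ⟨c, hc⟩⟩).2
      rw [act_coe] at h4
      have h5 : (pact ((s⁻¹ : Spor.M23) : Equiv.Perm GolayPt) (bb c)) = fun p => bb c ((s : Equiv.Perm GolayPt) p) := by
        funext p
        rw [pact_apply]
        rw [Subgroup.coe_inv, inv_inv]
      rw [← h5]
      exact h4
    have h6 : ∀ p, u p * bb c ((s : Equiv.Perm GolayPt) p) =
        ∑ k ∈ Finset.range 11, rwD s c k * (u p * bb k p) := by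
      intro p
      have h7 : bb c ((s : Equiv.Perm GolayPt) p) = _ := expand_val hmem p
      rw [h7, Finset.mul_sum]
      apply Finset.sum_congr rfl
      intro k _
      show u p * (bb k p * rwD s c k) = _
      ring
    rw [Finset.sum_congr rfl fun p _ => h6 p, Finset.sum_comm]
    apply Finset.sum_congr rfl
    intro k hk
    rw [← Finset.mul_sum, e1, kD_eq N hsurj hker u (Finset.mem_range.1 hk)]
    rfl

end

/-! ### the theorems -/

theorem code_split {E : Type*} [Group E] [Finite E] (N : Subgroup E) [hN : N.Normal]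
    (φ : E ⧸ N ≃* ↥Cfsg.Spor.M23)
    (ψ : Additive ↥N →+ (Cfsg.GolayPt → ZMod 2)) (hinj : Function.Injective ψ)
    (hrange : ∀ w : Cfsg.GolayPt → ZMod 2, w ∈ Set.range ψ ↔ (w ∈ Cfsg.golayCode ∧ w none = 0))
    (hψ : ∀ (g : E) (n : ↥N),
      ψ (Additive.ofMul ⟨g * n * g⁻¹, hN.conj_mem n n.2 g⟩)
        = ψ (Additive.ofMul n) ∘ ⇑(((φ (QuotientGroup.mk g) : ↥Cfsg.Spor.M23) : Equiv.Perm Cfsg.GolayPt)⁻¹)) :
    ∃ H : Subgroup E, H ⊓ N = ⊥ ∧ H ⊔ N = ⊤ := by
  have M := mextC N φ ψ hinj hrange hψ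
  obtain ⟨e, he⟩ := exists_letters M CohC0.D
  have h := M.split CohC0.good matC he (ev_zero _)
  rw [pr_ker] at h
  exact h

end Cfsg.Agent.MulX.CohM
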