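import Cfsg.Agent.MulX.FCode
import Cfsg.Agent.MulX.G23Data
import Cfsg.Agent.MulX.MG23Rel
import Cfsg.Agent.MulX.Part2
import Cfsg.Agent.CosetEnum.MG23.Certs
import Cfsg.Agent.Chev.Gen
import Cfsg.Agent.Chev.Desc
import Cfsg.Agent.Steinb.CtCoh
import Cfsg.Agent.Steinb.Uni

/-!
The Schur multiplier of `G₂(3)` (owner: helper58).
-/
set_option autoImplicit false
set_option maxRecDepth 1000000

namespace Cfsg.Agent.MulX.G23

open Matrix Cfsg.Agent.CosetEnum Cfsg.Agent.PermTab Cfsg.Agent.LE Cfsg Cfsg.Lie Cfsg.Agent.MulX.G23D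

/-- codes of the field with three elements -/
def C3 : FCode (ZMod 3) where
  q := 3
  dec := fun x => (x : ZMod 3)
  mul := fun x y => Nat.mod (Nat.mul x y) 3
  add := fun x y => Nat.mod (Nat.add x y) 3
  pos := by norm_num
  mul_lt := by decide +kernel
  add_lt := by decide +kernel
  dec_mul := by decide +kernel
  dec_add := by decide +kernel
  dec_zero := by decide +kernel
  dec_ne := by decide +kernel

/-- the coordinates -/
def e : chevG2.Idx ≃ Fin 14 := (finSumFinEquiv : Fin 2 ⊕ Fin 12 ≃ Fin 14)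

theorem H : Chev.Good chevG2 := Chev.good_of_mem (by simp [Chev.data])

/-- rows of the matrices of the root elements -/
def rows : ℕ → List (List ℕ)
  | 0 => [[1, 0, 0, 0, 0, 0, 1, 0, 0, 0, 0, 0, 0, 0], [0, 1, 0, 0, 0, 0, 0, 0, 0, 0, 0, 0, 0, 0], [0, 0, 1, 0, 0, 0, 0, 0, 0, 0, 0, 0, 0, 0], [0, 0, 0, 1, 0, 0, 0, 0, 0, 0, 0, 0, 0, 0], [0, 0, 0, 2, 1, 0, 0, 0, 0, 0, 0, 0, 0, 0], [0, 0, 0, 2, 2, 1, 0, 0, 0, 0, 0, 0, 0, 0], [0, 0, 0, 0, 0, 0, 1, 0, 0, 0, 0, 0, 0, 0], [0, 0, 0, 2, 0, 0, 0, 1, 0, 0, 0, 0, 0, 0], [0, 0, 0, 0, 0, 0, 0, 0, 1, 0, 0, 0, 0, 0], [1, 1, 0, 0, 0, 0, 2, 0, 0, 1, 0, 0, 0, 0], [0, 0, 0, 0, 0, 0, 0, 0, 2, 0, 1, 0, 0, 0], [0, 0, 0, 0, 0, 0, 0, 0, 1, 0, 1, 1, 0, 0], [0, 0, 0, 0, 0, 0, 0, 0, 1, 0, 0, 0, 1, 0], [0, 0, 0, 0, 0, 0, 0, 0, 0, 0, 0, 0, 0, 1]]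
  | 1 => [[1, 0, 0, 0, 0, 0, 0, 0, 0, 0, 0, 0, 0, 0], [0, 1, 0, 0, 0, 0, 0, 1, 0, 0, 0, 0, 0, 0], [0, 0, 1, 0, 0, 0, 0, 0, 0, 0, 0, 0, 0, 0], [0, 0, 2, 1, 0, 0, 0, 0, 0, 0, 0, 0, 0, 0], [0, 0, 0, 0, 1, 0, 0, 0, 0, 0, 0, 0, 0, 0], [0, 0, 0, 0, 0, 1, 0, 0, 0, 0, 0, 0, 0, 0], [0, 0, 0, 0, 0, 2, 1, 0, 0, 0, 0, 0, 0, 0], [0, 0, 0, 0, 0, 0, 0, 1, 0, 0, 0, 0, 0, 0], [0, 1, 0, 0, 0, 0, 0, 2, 1, 0, 0, 0, 0, 0], [0, 0, 0, 0, 0, 0, 0, 0, 0, 1, 0, 0, 0, 0], [0, 0, 0, 0, 0, 0, 0, 0, 0, 1, 1, 0, 0, 0], [0, 0, 0, 0, 0, 0, 0, 0, 0, 0, 0, 1, 0, 0], [0, 0, 0, 0, 0, 0, 0, 0, 0, 0, 0, 0, 1, 0], [0, 0, 0, 0, 0, 0, 0, 0, 0, 0, 0, 0, 1, 1]]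
  | 2 => [[1, 0, 0, 0, 0, 0, 0, 0, 0, 2, 0, 0, 0, 0], [0, 1, 0, 0, 0, 0, 0, 0, 0, 0, 0, 0, 0, 0], [0, 0, 1, 0, 0, 0, 0, 0, 0, 0, 0, 0, 0, 0], [0, 0, 0, 1, 0, 0, 0, 2, 0, 0, 0, 0, 0, 0], [0, 0, 0, 0, 1, 2, 0, 1, 0, 0, 0, 0, 0, 0], [0, 0, 0, 0, 0, 1, 0, 1, 0, 0, 0, 0, 0, 0], [2, 2, 0, 0, 0, 0, 1, 0, 0, 2, 0, 0, 0, 0], [0, 0, 0, 0, 0, 0, 0, 1, 0, 0, 0, 0, 0, 0], [0, 0, 0, 0, 0, 0, 0, 0, 1, 0, 0, 0, 1, 0], [0, 0, 0, 0, 0, 0, 0, 0, 0, 1, 0, 0, 0, 0], [0, 0, 0, 0, 0, 0, 0, 0, 0, 0, 1, 1, 2, 0], [0, 0, 0, 0, 0, 0, 0, 0, 0, 0, 0, 1, 1, 0], [0, 0, 0, 0, 0, 0, 0, 0, 0, 0, 0, 0, 1, 0], [0, 0, 0, 0, 0, 0, 0, 0, 0, 0, 0, 0, 0, 1]]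
  | 3 => [[1, 0, 0, 0, 0, 0, 0, 0, 0, 0, 0, 0, 0, 0], [0, 1, 0, 0, 0, 0, 0, 0, 2, 0, 0, 0, 0, 0], [0, 0, 1, 2, 0, 0, 0, 0, 0, 0, 0, 0, 0, 0], [0, 0, 0, 1, 0, 0, 0, 0, 0, 0, 0, 0, 0, 0], [0, 0, 0, 0, 1, 0, 0, 0, 0, 0, 0, 0, 0, 0], [0, 0, 0, 0, 0, 1, 2, 0, 0, 0, 0, 0, 0, 0], [0, 0, 0, 0, 0, 0, 1, 0, 0, 0, 0, 0, 0, 0], [0, 2, 0, 0, 0, 0, 0, 1, 2, 0, 0, 0, 0, 0], [0, 0, 0, 0, 0, 0, 0, 0, 1, 0, 0, 0, 0, 0], [0, 0, 0, 0, 0, 0, 0, 0, 0, 1, 1, 0, 0, 0], [0, 0, 0, 0, 0, 0, 0, 0, 0, 0, 1, 0, 0, 0], [0, 0, 0, 0, 0, 0, 0, 0, 0, 0, 0, 1, 0, 0], [0, 0, 0, 0, 0, 0, 0, 0, 0, 0, 0, 0, 1, 1], [0, 0, 0, 0, 0, 0, 0, 0, 0, 0, 0, 0, 0, 1]]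
  | _ => []

/-- tables of the root elements -/
def gt : ℕ → ℕ
  | 1 => 0x7b58cd6f8b51b4e0fbb3d7e0a79ad3f8eb023b588ca66321a0d267a9d4aa350a7d3a9b4ca5a12850d435261f1244d1a7c938dce519174846283078441a150b84cca633097cba5b2c95ca9aed86b164b4583118cc2e673b96771546cf63891475023311a5216194341d1d111440a00fe7e3e9f0e8fdad9ee095db01e202f9375a5e86cb29c6ccfcaad5aa958acd5dc2e06fbb5d8eb3017cbd2291c85d4e97436db4d969345a05d2e16e4b2692379badc5431c6aaa670dc74ad65b0d6e435f2c07eb4203185e30170c866311f2bd7e455b305884259aac70cd530d9923b652b972ba5c2f17abb0d06c32954b2513c9f4e8783a1c8b22e751d494f27f1a47a1e21484143a8913a2a2a693599cde7136ae1cdff5e3d40e01613b9bed6f735591eb687d1c9e6f278bc1deee7238dc51f9047a512993b55a8d327944a0552b958a4542991c8c48269309c4a2492d803d58b0888b559314823967aa468c853b31583c52a9146a250a805a2c158a85228138984a211007c30170b26d389a4ca612e24118882a14098482210078381a090401c0c0502030160a018080200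
  | 2 => 0x5e42eaf085cd52a34ea5c759d6966466cd65b258e24c4b043d835d87302b90d5fd6e18bead2b9f73f7caaa793b9d4e5e6a49b285e133984b655035ad2200b2a2bfd63447f2c286fd57d09daec75a69389b6f375b8944b2557b09ac4197555a953e996b8e33635676532590c762d8626c3afc45f940564f9f0a95429d4cf152cdd44ee9a4c65d2b5bd2a0ab3a34053c9d4fc9a4b2472b9dcce27238dbee1702612e999047e3cd66c35da6d56a341a4d15dc2ab3075c55aa750a6b3ed51bb432e31178b456c5146357a20c2a0ab5f4ab9ebddecf57a3c94738503be6b3297cb293045b51e04b493ca650e9743aa432391369b2db3f9985e693e0c8522c1324c726d1da3ce06b361a8827745114f6861e1c51c6f1c245188d459f8ce3332204602d1509c88873d10912781087c405c2e96c462212188c6610884820140a84c1c0f0694ca8522b15caa502893ce4901d248dc371b0d4687d340c4ca80170ac5025429e486883b10106751fa10e83e411cc7a5e2f980b2582d0783a1c0d86832180b8589c4d2612c94492411c8c0a0602c1007048180a040080c0400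
  | 3 => 0x81d36d2f2afd98e26fb1da9e160a63deba7a3c56a086cab9d1f3543a9b4ce7935992c567a5a465948404fa8b1388d0a927e9fcad0b3c8e46a7292874da2c8799c5e1f098dc360d41a34a89a4c273b1d6ed6cb6db4552b95a168f41a4e694744212213843501150746a311d1d864f4f94a8a9feb672333d2b94fa9561e7647ed4cef653455aa0ef7d9da9c7081544a85229ca24f296fb85c0e573b99c4e471c7a411f2492896d168349aed66c351a6d51aacd48be1b0a458325e8f98e2d570fd4430152e58aac142c9982b52b1992c2198ed94c8550bd9e4265a857ec0622dd4c455d8e15eb80a850269f4f2752c954a04424109d45210829dcba633740d0d17328cd121535979f5131896c49213034c05eb05aada1f4f637565f1617e195fefe801ecd55e775ace6f12893ca05a2c164c262319188e486e379bb2492c98b65d2e3a5d0ea91c86445f2f1819a2721af072405a2d87a445d0e84cc11baad5a34672c062a8618b94eb5502a562a31e1044a211007c1c0f068783a1c0d86832180b859389b4d26132971189044080481c0403008180a040602c1400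
  | 4 => 0x93bb13e9c74c91cce3702b9f54055cf1f0a75429a170a84ae570baa8d4ea54ea853e974da646d9d6bb332e34c864b1dbb214cb692d1e6bb51a2f3793c542a0514c2653196cbe5d2a964ad6b03a42d205476244ac0c28857a52eb4f26dd12672b89befc9fab5f2a99ebd5ecf45daf57956aad52d31c67b2a33688b45e2adc91a61b29590359a6d051a9549359a4ce92b6825196701a1ac1fd4458bfe84af7ed898d14afb0e235b5fc36b8c0875697d0c943b53a9a75495cee470d0558fb9f3dd553a9dce6b157acc1a110766daa3b18b3b32c965b1b7a44976da523ed86ab4a6f369c3b9e0ef82d296f00a2aca276162c3ebac130884b25c12178361e0c23c7471491b4708d4622c5c2f181a0d2671b9bd268e390ecd86b3508cb65f10188b01d0d05c623319201027f4290cf289211e0ec40441ec8a8603820120c0502c0a0602154ae5629948a8512813d2239371c078901b0d468222e9803e632d07032163f1f0fa64331945a2c158a85228138984a8a3b9050e7a2220cea3f421d07c82398f428130a8402411078381a492512c9c4c2691c90460000c0202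
  | _ => idt

/-- root elements -/
def eG : ℕ → ↥(chevG2.group (ZMod 3))
  | 1 => Chev.xG H.toGood2 7 1
  | 2 => Chev.xG H.toGood2 6 1
  | 3 => Chev.xG H.toGood2 4 1
  | 4 => Chev.xG H.toGood2 5 1
  | _ => 1

/-- matrix of an element -/
abbrev mu : ↥(chevG2.group (ZMod 3)) →* Matrix chevG2.Idx chevG2.Idx (ZMod 3) :=
  (Units.coeHom _).comp (chevG2.group (ZMod 3)).subtype

theorem mu_inj : Function.Injective mu := fun _ _ h => Subtype.ext (Units.ext h)

theorem ent0 : ∀ i j : Fin 14, (chevG2.xMat (ZMod 3) (⟨7, by decide⟩ : Fin 12) 1 (finSumFinEquiv.symm i) (finSumFinEquiv.symm j) : ZMod 3) = (C3.dec (((rows 0).getD i []).getD j 0) : ZMod 3) := by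
  decide +kernel

theorem ent1 : ∀ i j : Fin 14, (chevG2.xMat (ZMod 3) (⟨6, by decide⟩ : Fin 12) 1 (finSumFinEquiv.symm i) (finSumFinEquiv.symm j) : ZMod 3) = (C3.dec (((rows 1).getD i []).getD j 0) : ZMod 3) := by
  decide +kernel

theorem ent2 : ∀ i j : Fin 14, (chevG2.xMat (ZMod 3) (⟨4, by decide⟩ : Fin 12) 1 (finSumFinEquiv.symm i) (finSumFinEquiv.symm j) : ZMod 3) = (C3.dec (((rows 2).getD i []).getD j 0) : ZMod 3) := by
  decide +kernel

theorem ent3 : ∀ i j : Fin 14, (chevG2.xMat (ZMod 3) (⟨5, by decide⟩ : Fin 12) 1 (finSumFinEquiv.symm i) (finSumFinEquiv.symm j) : ZMod 3) = (C3.dec (((rows 3).getD i []).getD j 0) : ZMod 3) := by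
  decide +kernel

theorem sub_of {M : Matrix chevG2.Idx chevG2.Idx (ZMod 3)} {N : Matrix (Fin 14) (Fin 14) (ZMod 3)}
    (h : ∀ i j : Fin 14, M (e.symm i) (e.symm j) = N i j) : M = N.submatrix e e := by
  ext i j
  have h2 := h (e i) (e j)
  rw [e.symm_apply_apply, e.symm_apply_apply] at h2
  rw [Matrix.submatrix_apply, ← h2]

theorem mu_eG : ∀ x < 4, mu (eG (x + 1)) = (C3.mat 14 (rows x)).submatrix e e := by
  intro x hx
  have h0 : mu (eG 1) = _ := Chev.x_eq (D := chevG2) (F := ZMod 3) (r := 7) (by decide) 1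
  have h1 : mu (eG 2) = _ := Chev.x_eq (D := chevG2) (F := ZMod 3) (r := 6) (by decide) 1
  have h2 : mu (eG 3) = _ := Chev.x_eq (D := chevG2) (F := ZMod 3) (r := 4) (by decide) 1
  have h3 : mu (eG 4) = _ := Chev.x_eq (D := chevG2) (F := ZMod 3) (r := 5) (by decide) 1
  interval_cases x
  · rw [h0]; exact sub_of ent0
  · rw [h1]; exact sub_of ent1
  · rw [h2]; exact sub_of ent2
  · rw [h3]; exact sub_of ent3

/-- long root vectors -/
abbrev ptT : ℕ := 0xa285aa965186a941222a984a99a956145a942021a9aa528a916514a940100a96928a69889566941022695a2496991895694212169296186995624694020069259a22999562294112229a66a1291aa612942221295848829484482968408294448429644442954404296008029500402940000294856a999a286998201299624a999a924599811119966a18991aa249980200999618a5951466598221259a514959446a559810115925928595991459801005916592196a95219821121955a91192965119812111984888199484819a480819a888419888441998804199008019a004019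800001929696894459689924968988a6589259658952865891aaaa49849aa49618aa4948659491655949a1459492929aa510406a558562a5a1519a510885a598a61a54a468a5a6454a510040a52084a659261665a49a26520409651615565646a1659949865454a4652008065251a6258996625515262586aa9251a26925626292561a2a95104469554592952516995108059594a919586898956a8a49510080952080a551a2a655a8952552048955529255568651555586855898545520040551619a154a55a15a291a154569515292551591a1515aa686854558685104868589a4585669458510845851a220859a120855a0208556210851611085960108590200855010085100008559a8a458698a452088a454a6494595549452044945a5220452512045650204529210456911045a9010456020045a01004520000456451aa18aa46a1668a2a19a059a199605a1255a1a11a6a8a146694a1a0280a1a650a61a5096611a66261859896158615615986161495586125564619014061a91aa216196a212552a2152aa52196265211a62521560aa91559069129a5291a8a29914658591aa4519116958918a9649160140914964a51949265195492516aa09516906551169915185aa8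5129a945150280515a1961192556111691611a169911652591129a1911516a681685a681464a681a4a558191955818a85581a2a9a419899a418589a41546694162569414946941aa41aa425946a485aa2a400259a416505a4464a1a4625a8a492594a400180a42960a64001966449462641aa896495415648a96164a16586451664640024064001aa249496a246852a24a8aa52400265245462524001aa941aa06948a85294668299429685944955194a2a589452a649400240941654a5459826544669254259095400265548589154619a8549199454001805400196146455614989161458699140025914a4a1914652968400196849a096840026584a9165845606584962aa44001aa44690aa4400259445a15944a505944259800455980048598004a658004165800446580046018004901800400180046aa40041aa40048aa4004296400499640044964004a024004502400400240049566a9000086900011290995a99000045900021190a281890528249000000900008a50a66665000112500004950aa5a550002115061828509181450000005044592108895210001121084a9110486511000211102088810208481020808101088410108441010804100008010000401000000102928a401618a400008a401a2494025149400004940412204041120404102040812104081110408101040002004000100400000040a88400098840008884000684400058440004844000200400010040000004000961000056100001610000a510000651000025100008010000401000000100009000000500000010000004000000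

/-- coordinates of the vector with number `i` -/
def pt (i : ℕ) : List ℕ := (List.range 14).map fun k => Nat.land (Nat.shiftRight ptT (28 * i + 2 * k)) 3

/-- the points -/
def v (i : Fin 364) : chevG2.Idx → ZMod 3 := fun k => C3.vec 14 (pt i) (e k)

theorem rowsB : ∀ x < 4, ∀ k < 14, C3.okL ((rows x).getD k []) = true ∧ ((rows x).getD k []).length = 14 := by
  decide +kernel

theorem ptB : ∀ i < 364, C3.okL (pt i) = true := by decide +kernel

theorem gt_valid (x : ℕ) : tvalid 9 364 (gt x) = true := by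
  have key : ∀ x < 5, tvalid 9 364 (gt x) = true := by decide +kernel
  by_cases hx : x < 5
  · exact key x hx
  · match x, hx with
    | m + 5, _ => exact key 0 (by norm_num)

theorem actB : ((List.range 4).all fun x => (List.range 364).all fun i =>
    C3.actE 14 (rows x) (pt i) (pt (tget 9 (gt (x + 1)) i))) = true := by decide +kernel

theorem one_D : ((1 : ↥(chevG2.group (ZMod 3))), toPerm 9 364 idt) ∈ projD mu v := by
  have : toPerm 9 364 idt = 1 := by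
    rw [hid]
    exact (toPerm_tid (by norm_num)).2
  rw [this]
  exact Subgroup.one_mem _

theorem mem_D (x : ℕ) : (eG x, toPerm 9 364 (gt x)) ∈ projD mu v := by
  have key : ∀ x < 4, (eG (x + 1), toPerm 9 364 (gt (x + 1))) ∈ projD mu v := by
    intro x hx
    rw [mem_projD]
    intro i
    have h := actB
    simp only [List.all_eq_true, List.mem_range] at h
    have e1 : ((toPerm 9 364 (gt (x + 1)) i : Fin 364) : ℕ) = tget 9 (gt (x + 1)) i := toPerm_apply (gt_valid (x + 1)) i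
    obtain ⟨d, hd, h2⟩ := C3.actE_spec (rowsB x hx) ⟨ptB i i.2, by simp [pt]⟩ (ptB _ (tget_lt_of_valid (gt_valid (x + 1)) i.2))
      (h x hx i i.2)
    refine ⟨d, hd, ?_⟩
    rw [mu_eG x hx]
    funext k
    have h3 := congrFun h2 (e k)
    rw [← e1] at h3
    show ((C3.mat 14 (rows x)).submatrix e e *ᵥ (C3.vec 14 (pt i) ∘ e)) k = d * C3.vec 14 (pt (toPerm 9 364 (gt (x + 1)) i)) (e k)
    rw [Matrix.submatrix_mulVec_equiv]
    have h4 : (C3.vec 14 (pt i) ∘ e) ∘ e.symm = C3.vec 14 (pt i) := by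
      funext j; simp
    rw [h4]
    exact h3
  match x with
  | 0 => exact one_D
  | x + 1 =>
    by_cases hx : x < 4
    · exact key x hx
    · match x, hx with
      | m + 4, _ =>
        have e1 : eG (m + 4 + 1) = 1 := rfl
        have e2 : gt (m + 4 + 1) = idt := rfl
        rw [e1, e2]
        exact one_D

/-- frame -/
def fV : List (List ℕ) := [[1, 0, 1, 1, 1, 0, 0, 0, 1, 0, 1, 1, 0, 1], [2, 0, 2, 2, 0, 0, 1, 0, 1, 0, 0, 1, 1, 1], [1, 0, 0, 1, 2, 0, 1, 0, 2, 1, 0, 0, 0, 2], [0, 1, 2, 0, 2, 1, 1, 1, 2, 2, 1, 1, 0, 1], [0, 1, 2, 0, 1, 0, 2, 0, 2, 2, 1, 0, 0, 2], [0, 2, 1, 0, 1, 0, 1, 0, 2, 1, 2, 0, 0, 2], [0, 0, 1, 0, 0, 1, 2, 0, 1, 0, 2, 2, 0, 0], [0, 1, 2, 1, 0, 0, 0, 0, 2, 2, 1, 0, 1, 1], [0, 0, 0, 0, 2, 0, 0, 1, 2, 0, 0, 0, 2, 0], [0, 0, 1, 0, 1, 0, 2, 0, 0, 0, 1, 0, 1, 2], [0, 0, 2, 0, 1, 1, 1, 0, 1, 0, 1, 1, 1, 0], [0, 0, 0, 0, 2, 0, 2, 0, 2, 0, 2, 1, 2, 0], [0, 0, 1, 2, 1, 0, 1, 0, 2, 0, 0,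 2, 0, 2], [2, 0, 2, 2, 2, 2, 1, 0, 0, 0, 1, 1, 1, 0]]

/-- inverse of the frame -/
def fW : List (List ℕ) := [[0, 1, 0, 0, 1, 1, 2, 0, 0, 1, 2, 2, 1, 1], [0, 0, 1, 1, 2, 2, 0, 0, 2, 2, 0, 1, 0, 1], [0, 1, 0, 1, 0, 0, 2, 2, 2, 2, 2, 1, 2, 2], [1, 1, 0, 2, 1, 2, 2, 2, 1, 2, 2, 0, 1, 0], [2, 2, 0, 2, 0, 0, 0, 1, 1, 0, 1, 0, 1, 0], [2, 0, 0, 1, 1, 2, 1, 0, 2, 0, 1, 1, 0, 2], [0, 2, 0, 1, 0, 2, 2, 1, 2, 1, 1, 1, 1, 1], [2, 0, 0, 0, 2, 0, 2, 1, 1, 0, 0, 2, 1, 2], [0, 0, 0, 1, 2, 2, 0, 2, 2, 0, 2, 2, 2, 0], [0, 0, 1, 1, 2, 2, 0, 2, 2, 2, 0, 0, 2, 1], [0, 0, 0, 2, 2, 0, 1, 2, 1, 0, 0, 1, 2, 0], [2, 2, 0, 0, 1, 2, 2, 1, 0, 1, 1, 2, 1, 0], [0, 1, 0, 0, 0, 1, 2, 1, 0, 0, 0, 0, 1, 2], [2, 2, 0, 1, 2, 2, 0, 2, 2, 0, 2, 1, 2, 0]]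

theorem fVW : C3.mat 14 fV * C3.mat 14 fW = 1 := by decide +kernel

/-- points of the frame -/
def fp : Fin 14 → Fin 364 := ![298, 31, 295, 299, 203, 25, 113, 23, 285, 68, 148, 214, 73, 276]

theorem faith (a : ↥(chevG2.group (ZMod 3))) (ha : (a, 1) ∈ projD mu v) : a = 1 := by
  have h0 : a ∈ Subgroup.center ↥(chevG2.group (ZMod 3)) := by
    apply mem_center_of_scalar mu_inj
    rw [mem_projD] at ha
    have h1 : ∀ i : Fin 364, ∃ c : ZMod 3, ((mu a).submatrix e.symm e.symm) *ᵥ C3.vec 14 (pt i) = c • C3.vec 14 (pt i) := by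
      intro i
      obtain ⟨c, -, hc⟩ := ha i
      refine ⟨c, ?_⟩
      rw [Matrix.submatrix_mulVec_equiv]
      funext k
      have h2 := congrFun hc (e.symm k)
      have h3 : (C3.vec 14 (pt i) ∘ e.symm.symm) = v i := by
        funext j; rfl
      rw [h3]
      show (mu a *ᵥ v i) (e.symm k) = c * C3.vec 14 (pt i) k
      rw [h2]
      show c * C3.vec 14 (pt i) (e (e.symm k)) = _
      rw [e.apply_symm_apply]
    obtain ⟨c, hc⟩ := scalar_of_frame fVW (A := (mu a).submatrix e.symm e.symm) (u := C3.vec 14 (pt 242)) (by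
      intro i
      have h : ∀ i : Fin 14, (fun k => C3.mat 14 fV k i) = C3.vec 14 (pt (fp i)) := by decide +kernel
      rw [h]
      exact h1 (fp i)) (by decide +kernel) (h1 242)
    refine ⟨c, ?_⟩
    have h5 : mu a = ((mu a).submatrix e.symm e.symm).submatrix e e := by
      ext i j
      simp
    rw [h5, hc]
    ext i j
    simp [Matrix.one_apply]
  rw [Cfsg.Agent.Steinb.group_center H Cfsg.Agent.Steinb.sp_G2 Cfsg.Agent.ChevGrp.DData.dG2] at h0
  exact Subgroup.mem_bot.1 h0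

theorem lead : ∀ i : Fin 364, leadOne (C3.vec 14 (pt i)) := by
  unfold leadOne
  decide +kernel

/-- number of a vector -/
def cd (u : Fin 14 → ZMod 3) : ℕ := (List.finRange 14).foldl (fun a k => a * 3 + (u k).val) 0

theorem cd_lt : StrictMono fun i : Fin 364 => cd (C3.vec 14 (pt i)) := by
  rw [Fin.strictMono_iff_lt_succ]
  decide +kernel

theorem fn (σ : Equiv.Perm (Fin 364)) (h : ((1 : ↥(chevG2.group (ZMod 3))), σ) ∈ projD mu v) : σ = 1 := by
  rw [mem_projD] at h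
  ext i
  obtain ⟨c, hc, h1⟩ := h i
  rw [map_one, Matrix.one_mulVec] at h1
  have h2 : C3.vec 14 (pt i) = c • C3.vec 14 (pt (σ i)) := by
    funext k
    have h3 := congrFun h1 (e.symm k)
    have h4 : v i (e.symm k) = C3.vec 14 (pt i) k := by
      show C3.vec 14 (pt i) (e (e.symm k)) = _
      rw [e.apply_symm_apply]
    have h5 : v (σ i) (e.symm k) = C3.vec 14 (pt (σ i)) k := by
      show C3.vec 14 (pt (σ i)) (e (e.symm k)) = _
      rw [e.apply_symm_apply]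
    rw [h4, Pi.smul_apply, h5] at h3
    exact h3
  have h3 := eq_of_leadOne (lead i) (lead _) hc h2
  have h4 := cd_lt.injective (show cd (C3.vec 14 (pt i)) = cd (C3.vec 14 (pt (σ i))) by rw [h3])
  exact congrArg Fin.val h4.symm

theorem rep0 : RepT 9 364 gt eG (projD mu v) := ⟨gt_valid, mem_D, faith, fn⟩

/-- words of the letters in the root elements -/
def wd : ℕ → List ℕ
  | 1 => [4, 4, 2, 2, 1, 3, 2, 2, 1, 2, 2, 4, 1]
  | 2 => [1, 1, 4, 4, 2, 1, 1, 2, 3, 3, 1, 1, 2, 4]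
  | 3 => [2, 2, 1, 1, 3, 4, 4, 3, 3, 4, 4, 3, 3, 4, 4, 1, 2]
  | 4 => [2, 2, 1, 1, 4, 3, 4, 3, 4, 3, 3, 1, 2]
  | 5 => [2, 1, 2, 1, 1, 4, 4, 3, 2, 4, 4, 3, 4, 4, 1, 1]
  | 6 => [1, 4, 3, 3, 4, 2, 2, 3, 3, 4, 1, 2, 2, 1, 1, 2, 2]
  | 7 => [1, 1, 4, 4, 3, 3, 4, 4, 3, 3, 4, 4, 3, 1]
  | 8 => [1, 1, 3, 3, 4, 3, 4, 3, 4, 1]
  | _ => []

/-- letters -/
def gS (x : ℕ) : ↥(chevG2.group (ZMod 3)) := ((wd x).map eG).prod

theorem tb_wd (x : ℕ) : tb x = tword 9 364 idt gt (wd x) := by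
  have key : ∀ x < 9, tb x = tword 9 364 idt gt (wd x) := by decide +kernel
  by_cases hx : x < 9
  · exact key x hx
  · match x, hx with
    | m + 9, _ => exact key 0 (by norm_num)

theorem rep : RepT 9 364 tb gS (projD mu v) :=
  ⟨tb_valid, fun x => by rw [tb_wd]; exact rep0.word (by norm_num) hid _, faith, fn⟩

theorem top (card : Nat.card ↥(chevG2.group (ZMod 3)) = 4245696) : Cl gS 8 = ⊤ := by
  have hfin : Finite ↥(chevG2.group (ZMod 3)) := Nat.finite_of_card_ne_zero (by rw [card]; norm_num)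
  exact rep.top_lb (by norm_num) hid hws (by decide) chk (by rw [card]; exact hcard.ge)

theorem rel_ok : letB 8 MG23G.iv = true ∧ triB 8 MG23G.iv MG23R.R1 = true ∧
    relB MG23G.iv 8 MG23R.R1 MG23R.R2 MG23G.RL = true ∧
    (List.range (8 + 1)).all (fun x => !isLet 8 x || (MG23R.R1.any fun q => q.1 == x || ivL MG23G.iv q.1 == x)) = true ∧
    exB MG23G.iv MG23R.R1 MG23G.RL = true ∧ ceB MG23G.iv 8 MG23R.R2 MG23G.RL = true := by
  decide +kernel

theorem cp (card : Nat.card ↥(chevG2.group (ZMod 3)) = 4245696) : CP gS 8 MG23G.iv MG23R.R1 MG23R.R2 MG23G.RL := by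
  obtain ⟨h1, h2, h3, h4, -, -⟩ := rel_ok
  exact rep.cp (by norm_num) hid h1 h2 h3 h4 (by decide +kernel) rfl (fun x hx => by
    match x, hx with
    | m + 9, _ => rfl) (by decide +kernel) (by decide +kernel) (top card)

theorem bd : Bd (⊤ : Subgroup (QG 8 MG23G.iv MG23G.RL)) (4245696 * 3) := by
  have U := univ_qg 8 MG23G.iv MG23G.RL
  have g := U.good
  rw [← U.top]
  have hw : ∀ u ∈ MG23Q.us, (u.map (qg 8 MG23G.iv MG23G.RL)).prod = 1 := fun u hu =>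
    Subgroup.mem_bot.1 (MG23Q.cert.apply_cut g (by decide +kernel) (H := ⊥) (by simp [MG23Q.subs]) (by decide) u hu)
  have g2 := g.append hw
  have h1 := (Bd.zero (qg 8 MG23G.iv MG23G.RL)).cl (M := 6048) MG23U.cert g2 (by decide +kernel) (by decide +kernel)
    (by norm_num) rfl
  exact h1.cl (M := 4245696 * 3) MG23G.cert g (by decide +kernel) (by decide +kernel) (by norm_num) rfl

theorem ord : 3 ∣ orderOf ((([[2, 8, 2, 8]] : List (List ℕ)).flatten.map (qg 8 MG23G.iv MG23G.RL)).prod) :=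
  dvd_orderOf MG23T.tabOK (c := [2, 8, 2, 8]) (by decide) (by norm_num) (i := 0) (by decide +kernel) (by decide +kernel)

theorem mult (card : Nat.card ↥(chevG2.group (ZMod 3)) = 4245696) :
    HasCyclicSchurMultiplier ↥(chevG2.group (ZMod 3)) 3 := by
  obtain ⟨-, -, -, -, h5, h6⟩ := rel_ok
  exact (cp card).cyclic h5 h6 card (by norm_num) (by norm_num) bd (ws := [[2, 8, 2, 8]]) (by decide) ord

end Cfsg.Agent.MulX.G23
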