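import Cfsg.Agent.MulX.StbPerm
import Cfsg.Agent.CosetEnum.Ru.TData

/-!
Data for the prime 5 in the Rudvalis group (owner: helper58)
-/

set_option autoImplicit false
set_option maxRecDepth 1000000

namespace Cfsg.Agent.MulX.RuE

open Cfsg Cfsg.Agent.MulX.Stb Cfsg.Agent.MulX.StbP

/-- words for the letters -/
def D : List (List ℕ) := [[1, 1, 8, 1, 9, 10, 4, 4, 2, 2, 8, 10, 11, 6, 10, 8, 5, 8, 1, 10, 5, 11, 7, 1], [1, 1, 3, 3, 1, 1, 10, 1, 3, 10, 3, 7, 11, 7, 8, 10, 6, 8, 11, 6], [3, 2, 2, 9, 10, 3, 10, 9, 4, 1, 10, 9, 10, 8, 5, 1, 3, 5, 2, 10, 11, 9, 10, 8, 5, 1, 6], [1, 4, 2, 4, 1, 8, 2, 2, 8, 1, 8, 2, 7, 1, 9, 1, 10, 5, 10, 11, 1, 5, 6, 8, 2, 11]]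
/-- rules -/
def rules : List (List ℕ × List ℕ) := [([0, 0, 0, 0, 0], []), ([1, 1, 1, 1, 1], []), ([2, 2, 2, 2, 2], []), ([1, 0], [0, 1, 2, 2, 2]), ([2, 0], [0, 2]), ([2, 1], [1, 2]), ([3, 0], [0, 1, 1, 1, 2, 2, 2, 2, 3]), ([3, 1], [0, 0, 1, 1, 1, 1, 2, 2, 2, 2, 3]), ([3, 2], [2, 2, 2, 3])]
/-- masks -/
def K : Mk := ⟨0x700070007000700070007000700070007, 0xfff0fff0fff0fff0fff0fff0fff0fff0fff, 0x3ff03ff03ff03ff03ff03ff03ff03ff03ff⟩
def paths0 : List (List ℕ × ℕ × ℕ) := [([3, 2, 0], 19, 0x803000c01001011000409000408000a06000a08000a0a000a04000a06000a08000a02000a04000a06000800000802000804000c06001000), ([1, 1, 1, 1, 1, 0], 20, 0x609000607000605000603000601000a09000a07000a05000407000a07000a0f000a0d000a0b000a0900040b000a0d000a0b000203000403000200), ([3, 2, 1], 25, 0xa03000e0100101500040d00040c000a0a000a0c000a0e000a08000a0a000a0c000a06000a08000a0a000a04000a06000a08000802000804000806000800000802000804000e06001000), ([3, 0, 0, 0, 0, 0], 70, 0x3000400000200000a08000a06000a04000404000a02000a04000a0600000000060800060a00040c000a0a000a08000208000a10000410000410000a0e000a10000a12000a14000a0c00040c000a0a000a0c000a0e00060600060800060a00060c00080e000810000812000814000408000604000806000808000406000a04000a06000a08000204000a0c000a0e000a10000a0a000a0c000a0e00040a000a08000408000a06000a08000a0a00060200060400060600080800080a00080c00080e000c40000c30000c20000c10000c00),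 ([3, 1, 1, 1, 1, 1], 113, 0x203000400000200000a08000a06000a04000a0200040200000000060800080a00080c00080e000606000408000a06000206000a0e000a0c000a0a00040a000a08000a0a000a0c000604000606000408000408000a06000a08000a0a00060200060400080600080800080a00080c000202000408000a06000406000a04000a06000a08000600000602000604000806000406000a04000404000a02000a04000a0600000000060800060a00060c00080e00081000040e000a0c000a0e000a10000a0a000a0c000a0e000a08000a0a000a0c000208000a10000a12000a14000410000a0e000a10000a12000a14000a0c00040c000a0a000a0c000a0e00060600060800060a00060c00080e00040e00040e000a0c000a0e000a10000a12000a0a00040a000a08000a0a000a0c00060400060600060800060a00080c00080e000810000812000e50000e3c000e28000e14000e00)]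
def rows0 : List ℕ := [0x400020000000000000000, 0x200000000, 0x100010000000000000000, 0x30000, 0x100030002]
/-- rows -/
def rows : List ℕ := [0x400020000000000000000, 0x200000000, 0x100010000000000000000, 0x30000, 0x100030002]
/-- gauge -/
def gauge : List ℕ := [0x0, 0x0, 0x2000000000000]
def certs0 : List ℕ := [0x3408, 0x400, 0x18, 0x0, 0x82, 0x103]
/-- chain of blocks -/
def chn : List (ℕ × List (List ℕ)) := [(629, [[], [0, 0, 0], [0], [0, 0, 0, 0], [0, 0]]),
  (1872, [[], [1, 2, 2], [1, 1, 2, 2, 2, 2], [1, 1, 1, 1, 2, 2, 2], [1, 1, 1, 2]]),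
  (82, [[], [2], [2, 2, 2, 2], [2, 2, 2], [2, 2]])]

end Cfsg.Agent.MulX.RuE
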