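import Cfsg.Agent.MulX.FCode
import Cfsg.Agent.MulX.U43Data
import Cfsg.Agent.MulX.MU43Rel
import Cfsg.Agent.MulX.Multi
import Cfsg.Agent.Uni.SU
import Cfsg.Agent.ClassBase.PSL29
import Cfsg.Agent.CosetEnum.MU43.Certs
import Cfsg.Agent.CosetEnum.MU43.CertG
import Cfsg.Agent.CosetEnum.MA6.Certs

/-!
The Schur multiplier of `PSU₄(3)` (owner: helper58).
-/
set_option autoImplicit false
set_option maxRecDepth 1000000

namespace Cfsg.Agent.MulX.U43

open Matrix Cfsg.Agent.CosetEnum Cfsg.Agent.PermTab Cfsg Cfsg.Agent.ClassBase.PSL29 Cfsg.Agent.MulX.U43D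

/-- codes of the field with nine elements: `3 re + im` -/
def C9 : FCode K9 where
  q := 9
  dec := fun x => ⟨((x / 3 : ℕ) : ZMod 3), ((x % 3 : ℕ) : ZMod 3)⟩
  mul := fun x y => Nat.land (Nat.shiftRight 0x264318750615237480453786120327165840138624570876543210741852630582471360000000000 (4 * (9 * x + y))) 15
  add := fun x y => Nat.land (Nat.shiftRight 0x435102768354021687543210876102768435021687354210876543768435102687354021876543210 (4 * (9 * x + y))) 15
  pos := by norm_num
  mul_lt := by decide +kernel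
  add_lt := by decide +kernel
  dec_mul := by decide +kernel
  dec_add := by decide +kernel
  dec_zero := by decide +kernel
  dec_ne := by decide +kernel

/-- rows of the matrices of the letters -/
def rows : ℕ → List (List ℕ)
  | 1 => [[1, 7, 7, 5], [7, 1, 7, 5], [2, 2, 6, 3], [0, 0, 7, 7]]
  | 2 => [[2, 8, 1, 0], [8, 2, 1, 0], [8, 8, 6, 8], [4, 4, 3, 8]]
  | 3 => [[8, 0, 2, 1], [8, 2, 0, 1], [4, 1, 1, 0], [2, 5, 5, 7]]
  | 4 => [[7, 7, 5, 1], [0, 1, 2, 4], [1, 0, 2, 4], [2, 2, 0, 8]]
  | 5 => [[6, 4, 8, 8], [7, 3, 6, 0], [7, 3, 0, 6], [5, 0, 3, 3]]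
  | 6 => [[6, 8, 8, 4], [5, 3, 3, 0], [7, 6, 0, 3], [7, 0, 6, 3]]
  | 7 => [[1, 6, 0, 4], [4, 0, 2, 6], [7, 3, 7, 7], [5, 7, 1, 7]]
  | 8 => [[2, 5, 8, 4], [6, 0, 3, 8], [0, 1, 8, 2], [5, 6, 8, 8]]
  | 9 => [[1, 3, 1, 6], [1, 6, 1, 3], [3, 2, 6, 2], [6, 2, 3, 2]]
  | 10 => [[2, 2, 3, 6], [3, 6, 1, 1], [2, 2, 6, 3], [6, 3, 1, 1]]
  | 11 => [[8, 8, 3, 4], [0, 2, 2, 4], [8, 4, 6, 8], [0, 4, 1, 2]]
  | 12 => [[7, 0, 7, 0], [7, 1, 5, 5], [3, 1, 6, 2], [5, 5, 7, 1]]
  | _ => []

/-- isotropic vectors -/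
abbrev ptT : ℕ := 0x6883388328831883678337832783178386837683568346836583358325831583648334832483148383837383538343838283728352834283818371835183418300836873387328731873677337732773177386737673567346736573357325731573647334732473147383737373537343738273727352734273817371735173417300738863786358634863876377635763476306638563756355634563846374635463446303630263016360633063206310636853385328531853675337532753175386537653565346536553355325531553645334532453145383537353535343538253725352534253815371535153415300536843384328431843674337432743174386437643564346436543354325431543644334432443144383437343534343438243724352434243814371435143414300438833783358334833873377335733473306338533753355334533843374335433443303330233013360333033203310338823782358234823872377235723472306238523752355234523842374235423442303230223012360233023202310238813781358134813871377135713471306138513751355134513841374135413441303130213011360133013201310130803070366033603260316030503040363033303230313036203320322031203610331032103110380037003500340030830073066303630263016300530043063303330233013306230323022301230613031302130113080307030503040308300730053004300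

/-- isotropic vector with number `i` -/
def pt (i : ℕ) : List ℕ :=
  [Nat.land (Nat.shiftRight ptT (16 * i)) 15, Nat.land (Nat.shiftRight ptT (16 * i + 4)) 15,
    Nat.land (Nat.shiftRight ptT (16 * i + 8)) 15, Nat.land (Nat.shiftRight ptT (16 * i + 12)) 15]

/-- element of the special unitary group -/
def mkS (m : List (List ℕ)) (h1 : (C9.mat 4 m).det = 1) (h2 : Uni.IsON 3 (fun i r => C9.mat 4 m r i)) : SU 4 K9 3 :=
  ⟨⟨C9.mat 4 m, h1⟩, (Uni.preserves_iff (q := 3) card_k9 _).2 h2⟩

theorem rows_ok : ∀ x < 12, (C9.mat 4 (rows (x + 1))).det = 1 := by decide +kernel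

theorem rows_on : ∀ x < 12, Uni.IsON 3 (fun i r => C9.mat 4 (rows (x + 1)) r i) := by
  unfold Uni.IsON hermForm
  decide +kernel

/-- letters -/
def gS : ℕ → SU 4 K9 3
  | 1 => mkS (rows 1) (rows_ok 0 (by norm_num)) (rows_on 0 (by norm_num))
  | 2 => mkS (rows 2) (rows_ok 1 (by norm_num)) (rows_on 1 (by norm_num))
  | 3 => mkS (rows 3) (rows_ok 2 (by norm_num)) (rows_on 2 (by norm_num))
  | 4 => mkS (rows 4) (rows_ok 3 (by norm_num)) (rows_on 3 (by norm_num))
  | 5 => mkS (rows 5) (rows_ok 4 (by norm_num)) (rows_on 4 (by norm_num))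
  | 6 => mkS (rows 6) (rows_ok 5 (by norm_num)) (rows_on 5 (by norm_num))
  | 7 => mkS (rows 7) (rows_ok 6 (by norm_num)) (rows_on 6 (by norm_num))
  | 8 => mkS (rows 8) (rows_ok 7 (by norm_num)) (rows_on 7 (by norm_num))
  | 9 => mkS (rows 9) (rows_ok 8 (by norm_num)) (rows_on 8 (by norm_num))
  | 10 => mkS (rows 10) (rows_ok 9 (by norm_num)) (rows_on 9 (by norm_num))
  | 11 => mkS (rows 11) (rows_ok 10 (by norm_num)) (rows_on 10 (by norm_num))
  | 12 => mkS (rows 12) (rows_ok 11 (by norm_num)) (rows_on 11 (by norm_num))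
  | _ => 1

/-- matrix of an element -/
abbrev mu : SU 4 K9 3 →* Matrix (Fin 4) (Fin 4) K9 := (slToMat 4 K9).comp (SU 4 K9 3).subtype

theorem mu_inj : Function.Injective mu := fun _ _ h => Subtype.ext (Subtype.ext h)

theorem mu_gS : ∀ x < 12, mu (gS (x + 1)) = C9.mat 4 (rows (x + 1)) := by
  intro x hx
  interval_cases x <;> rfl

/-- the isotropic points -/
def v (i : Fin 280) : Fin 4 → K9 := C9.vec 4 (pt i)

theorem rowsB : ∀ x < 12, ∀ k < 4, C9.okL ((rows (x + 1)).getD k []) = true ∧ ((rows (x + 1)).getD k []).length = 4 := by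
  decide +kernel

theorem ptB : ∀ i < 280, C9.okL (pt i) = true := by decide +kernel

theorem actB : ((List.range 12).all fun x => (List.range 280).all fun i =>
    C9.actE 4 (rows (x + 1)) (pt i) (pt (tget 9 (tb (x + 1)) i))) = true := by decide +kernel

theorem mem_D (x : ℕ) : (gS x, toPerm 9 280 (tb x)) ∈ projD mu v := by
  have key : ∀ x < 12, (gS (x + 1), toPerm 9 280 (tb (x + 1))) ∈ projD mu v := by
    intro x hx
    rw [mem_projD]
    intro i
    have h := actB
    simp only [List.all_eq_true, List.mem_range] at h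
    have e : ((toPerm 9 280 (tb (x + 1)) i : Fin 280) : ℕ) = tget 9 (tb (x + 1)) i := toPerm_apply (tb_valid (x + 1)) i
    obtain ⟨d, hd, h2⟩ := C9.actE_spec (rowsB x hx) ⟨ptB i i.2, rfl⟩ (ptB _ (tget_lt_of_valid (tb_valid (x + 1)) i.2))
      (h x hx i i.2)
    refine ⟨d, hd, ?_⟩
    rw [mu_gS x hx]
    show C9.mat 4 (rows (x + 1)) *ᵥ C9.vec 4 (pt i) = d • C9.vec 4 (pt _)
    rw [e]
    exact h2
  have one : (gS 0, toPerm 9 280 (tb 0)) ∈ projD mu v := by
    have : toPerm 9 280 (tb 0) = 1 := by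
      show toPerm 9 280 idt = 1
      rw [hid]
      exact (toPerm_tid (by norm_num)).2
    rw [this]
    exact Subgroup.one_mem _
  match x with
  | 0 => exact one
  | x + 1 =>
    by_cases hx : x < 12
    · exact key x hx
    · match x, hx with
      | m + 12, _ =>
        have e1 : gS (m + 12 + 1) = gS 0 := rfl
        have e2 : tb (m + 12 + 1) = tb 0 := rfl
        rw [e1, e2]
        exact one

/-- frame -/
def fV : List (List ℕ) := [[0, 0, 0, 3], [0, 0, 3, 0], [3, 3, 0, 0], [4, 5, 4, 4]]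

/-- inverse of the frame -/
def fW : List (List ℕ) := [[5, 5, 8, 1], [7, 7, 7, 2], [0, 3, 0, 0], [3, 0, 0, 0]]

theorem fVW : C9.mat 4 fV * C9.mat 4 fW = 1 := by decide +kernel

/-- points of the frame -/
def fp : Fin 4 → Fin 280 := ![0, 1, 4, 28]

theorem ce (a : SU 4 K9 3) (ha : (a, 1) ∈ projD mu v) : a ∈ Subgroup.center (SU 4 K9 3) := by
  apply mem_center_of_scalar mu_inj
  rw [mem_projD] at ha
  apply scalar_of_frame fVW (u := v 52)
  · intro i
    have h : ∀ i : Fin 4, (fun k => C9.mat 4 fV k i) = v (fp i) := by decide +kernel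
    rw [h]
    obtain ⟨c, -, hc⟩ := ha (fp i)
    exact ⟨c, hc⟩
  · decide +kernel
  · obtain ⟨c, -, hc⟩ := ha 52
    exact ⟨c, hc⟩

theorem lead (i : Fin 280) : leadOne (v i) := by
  revert i
  unfold leadOne
  decide +kernel

/-- number of a point -/
def cd (u : Fin 4 → K9) : ℕ := u 0 |>.re.val |> fun a => ((((((a * 3 + (u 0).im.val) * 3 + (u 1).re.val) * 3 + (u 1).im.val) * 3 + (u 2).re.val) * 3 + (u 2).im.val) * 3
  + (u 3).re.val) * 3 + (u 3).im.val

theorem cd_lt : StrictMono fun i : Fin 280 => cd (v i) := by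
  rw [Fin.strictMono_iff_lt_succ]
  decide +kernel

theorem fn (σ : Equiv.Perm (Fin 280)) (h : ((1 : SU 4 K9 3), σ) ∈ projD mu v) : σ = 1 := by
  rw [mem_projD] at h
  ext i
  obtain ⟨c, hc, h1⟩ := h i
  rw [map_one, Matrix.one_mulVec] at h1
  have h2 : v i = v (σ i) := eq_of_leadOne (lead i) (lead _) hc h1
  have h3 := cd_lt.injective (show cd (v i) = cd (v (σ i)) by rw [h2])
  exact congrArg Fin.val h3.symm

/-- letters in the quotient -/
noncomputable def gP (x : ℕ) : PSU 4 K9 3 := QuotientGroup.mk' (Subgroup.center (SU 4 K9 3)) (gS x)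

theorem rep : RepT 9 280 tb gP (quotD (projD mu v)) :=
  RepT.of_quot (ng := 12) (by norm_num) hid tb_valid mem_D ce fn chk (by decide +kernel) (by decide +kernel) hws (by decide)

theorem top (card : Nat.card (PSU 4 K9 3) = 3265920) : Cl gP 12 = ⊤ :=
  rep.top (by norm_num) hid chk hws (by decide) (by rw [card]; exact hcard.ge)

theorem rel_ok : letB 12 MU43G.iv = true ∧ triB 12 MU43G.iv MU43R.R1 = true ∧
    relB MU43G.iv 12 MU43R.R1 MU43R.R2 MU43G.RL = true ∧
    (List.range (12 + 1)).all (fun x => !isLet 12 x || (MU43R.R1.any fun q => q.1 == x || ivL MU43G.iv q.1 == x)) = true ∧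
    exB MU43G.iv MU43R.R1 MU43G.RL = true ∧ ceB MU43G.iv 12 MU43R.R2 MU43G.RL = true := by
  decide +kernel

theorem cp (card : Nat.card (PSU 4 K9 3) = 3265920) : CP gP 12 MU43G.iv MU43R.R1 MU43R.R2 MU43G.RL := by
  obtain ⟨h1, h2, h3, h4, -, -⟩ := rel_ok
  exact rep.cp (by norm_num) hid h1 h2 h3 h4 (by decide +kernel) rfl (fun x hx => by
    match x, hx with
    | m + 13, _ => rfl) (by decide +kernel) (by decide +kernel) (top card)

theorem bd : Bd (⊤ : Subgroup (QG 12 MU43G.iv MU43G.RL)) (3265920 * ∏ i : Fin 3, (![4, 3, 3] : Fin 3 → ℕ) i) := by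
  have e : 3265920 * ∏ i : Fin 3, (![4, 3, 3] : Fin 3 → ℕ) i = 117573120 := by decide
  rw [e]
  have U := univ_qg 12 MU43G.iv MU43G.RL
  have g := U.good
  rw [← U.top]
  have h1 := (Bd.zero (qg 12 MU43G.iv MU43G.RL)).cl (M := 2160) MA6A.cert g (by decide +kernel) (by decide +kernel)
    (by norm_num) rfl
  have hsub : ∀ r ∈ MU43Q.subs, (r.map (qg 12 MU43G.iv MU43G.RL)).prod ∈ Cl (qg 12 MU43G.iv MU43G.RL) 8 := by
    intro r hr
    apply word_mem_Cl
    revert r
    decide
  have e1 : MU43Q.RL = MU43G.RL := rfl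
  have e2 : MU43Q.iv = MU43G.iv := rfl
  have g' : Good (qg 12 MU43G.iv MU43G.RL) 12 MU43Q.iv MU43Q.RL := by rw [e1, e2]; exact g
  have hw := MU43Q.cert.apply g' hsub
  have h2 := h1.cl' (M := 241920) MU43L.cert g (by decide +kernel) (by decide) (by
    have key : ∀ r ∈ MU43L.subs, wOK 8 r = true ∨ r ∈ MU43Q.us := by decide
    intro r hr
    rcases key r hr with h | h
    · exact word_mem_Cl _ h
    · exact hw r h) rfl
  exact h2.cl (M := 117573120) MU43G.cert g (by decide +kernel) (by decide +kernel) (by norm_num) rfl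

/-- words of the generators of the kernel -/
def cws : Fin 3 → List (List ℕ) :=
  ![[[8, 9, 8, 9, 8, 9]], [[8, 12, 8, 12, 7, 11], [1, 7, 1, 7], [1, 7, 1, 7], [1, 7, 1, 7], [1, 7, 1, 7]], [[1, 7, 1, 7], [1, 7, 1, 7]]]

theorem main (card : Nat.card (PSU 4 K9 3) = 3265920) :
    ∃ σ : QG 12 MU43G.iv MU43G.RL →* PSU 4 K9 3, IsStemExtension σ ∧
      σ.ker = cenN 12 MU43G.iv MU43R.R2 MU43G.RL ∧ Nat.card σ.ker = ∏ i : Fin 3, (![4, 3, 3] : Fin 3 → ℕ) i ∧
      (∀ x, σ (qg 12 MU43G.iv MU43G.RL x) = gP x) ∧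
      Nonempty (σ.ker ≃* Multiplicative (∀ i : Fin 3, ZMod ((![4, 3, 3] : Fin 3 → ℕ) i))) := by
  obtain ⟨-, -, -, -, h5, h6⟩ := rel_ok
  obtain ⟨S1, a1, b1⟩ := exists_stab MU43T4.tabOK (i := 0) (by decide +kernel)
  obtain ⟨S2, a2, b2⟩ := exists_stab MU43T3a.tabOK (i := 0) (by decide +kernel)
  obtain ⟨S3, a3, b3⟩ := exists_stab MU43T3b.tabOK (i := 0) (by decide +kernel)
  refine (cp card).multi h5 h6 card (by norm_num) (by decide) bd (ws := cws) (by decide) (S := ![S1, S2, S3]) ?_ ?_
  · intro i j hij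
    fin_cases i <;> fin_cases j <;> first | exact absurd rfl hij | skip
    · exact a1 _ (by decide +kernel) (by decide +kernel)
    · exact a1 _ (by decide +kernel) (by decide +kernel)
    · exact a2 _ (by decide +kernel) (by decide +kernel)
    · exact a2 _ (by decide +kernel) (by decide +kernel)
    · exact a3 _ (by decide +kernel) (by decide +kernel)
    · exact a3 _ (by decide +kernel) (by decide +kernel)
  · intro i
    fin_cases i
    · exact b1 _ 4 (by decide +kernel) (by norm_num) (by decide +kernel)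
    · exact b2 _ 3 (by decide +kernel) (by norm_num) (by decide +kernel)
    · exact b3 _ 3 (by decide +kernel) (by norm_num) (by decide +kernel)

/-- reordering the factors -/
def prodE : (∀ i : Fin 3, ZMod ((![4, 3, 3] : Fin 3 → ℕ) i)) ≃+ ZMod 4 × ZMod 3 × ZMod 3 where
  toFun f := (f 0, f 1, f 2)
  invFun p := Fin.cons p.1 (Fin.cons p.2.1 (Fin.cons p.2.2 finZeroElim))
  left_inv f := by
    funext i
    fin_cases i <;> rfl
  right_inv p := rfl
  map_add' f g := rfl

theorem mult (card : Nat.card (PSU 4 K9 3) = 3265920) :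
    HasSchurMultiplier (PSU 4 K9 3) (Multiplicative (ZMod 4 × ZMod 3 × ZMod 3)) := by
  obtain ⟨σ, h1, -, h3, -, ⟨e⟩⟩ := main card
  exact hasSchur_of_cover (cp card) card (by norm_num) bd h1 h3 ⟨e.trans (AddEquiv.toMultiplicative prodE)⟩

end Cfsg.Agent.MulX.U43
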